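import Groth.Agent.H1EpsS.Compare
import Groth.Prelude.Def_EtCore
import Mathlib.Algebra.Homology.ShortComplex.ExactFunctor
import Mathlib.Algebra.Category.Grp.EpiMono

/-!
# The pro-etale pullback is exact; it preserves constant sheaves
-/

set_option autoImplicit false
set_option backward.isDefEq.respectTransparency false
set_option linter.style.haveILetI false

universe u

open CategoryTheory CategoryTheory.Limits AlgebraicGeometry Opposite

namespace Groth.Agent.H1EpsS

attribute [local instance] flat_eps

variable {X : Scheme.{u}}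

theorem lan_map_mk {F F' : X.Etaleᵒᵖ ⥤ AddCommGrpCat.{u + 1}} (f : F ⟶ F') {Z : X.ProEt} {V : X.Etale}
    (a : Z ⟶ (ProEtS.eps X).obj V) (x : F.obj (op V)) :
    ((ProEtS.eps X).op.lan.map f).app (op Z) (mk a x) = mk a (f.app (op V) x) := by
  have h := congr($((ProEtS.eps X).op.lanUnit.naturality f).app (op V) x)
  show ((ProEtS.eps X).op.lan.map f).app (op Z) ((preEps F).map a.op ((preUnit F).app (op V) x)) =
    (preEps F').map a.op ((preUnit F').app (op V) (f.app (op V) x))
  rw [NatTrans.naturality_apply]
  congr 1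
  exact h.symm

theorem lan_injective {F F' : X.Etaleᵒᵖ ⥤ AddCommGrpCat.{u + 1}} (f : F ⟶ F')
    (hf : ∀ V, Function.Injective (f.app V)) (Z : X.ProEtᵒᵖ) :
    Function.Injective (((ProEtS.eps X).op.lan.map f).app Z) := by
  intro r r' h
  obtain ⟨V, a, x, x', rfl, rfl⟩ := exists_rep₂ (Z := Z.unop) r r'
  obtain ⟨V', g, a', hga, hxx⟩ := (exists_rep_and_eq Z.unop).2 a (f.app _ x) (f.app _ x')
    ((lan_map_mk f a x).symm.trans (h.trans (lan_map_mk f a x')))
  rw [← hga, ← mk_map, ← mk_map]
  congr 1
  refine hf (op V') ?_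
  rw [NatTrans.naturality_apply, NatTrans.naturality_apply]
  exact hxx

variable [ProEtS.EpsCont X]

theorem epsPull_preservesMono : (ProEtS.epsPull X).PreservesMonomorphisms := by
  refine ⟨fun {F F'} f hf => ?_⟩
  haveI : Mono ((sheafToPresheaf _ _).map f) := (sheafToPresheaf _ _).map_mono f
  have hinj : ∀ V, Function.Injective (f.hom.app V) := fun V =>
    (AddCommGrpCat.mono_iff_injective _).1 (inferInstanceAs (Mono (((sheafToPresheaf _ _).map f).app V)))
  haveI : ∀ Z, Mono (((ProEtS.eps X).op.lan.map f.hom).app Z) := fun Z =>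
    (AddCommGrpCat.mono_iff_injective _).2 (lan_injective f.hom hinj Z)
  haveI : Mono ((ProEtS.eps X).op.lan.map f.hom) := NatTrans.mono_of_mono_app _
  haveI : Mono ((presheafToSheaf (Scheme.ProEt.topology X) AddCommGrpCat.{u + 1}).map
      ((ProEtS.eps X).op.lan.map f.hom)) := inferInstance
  let α := Functor.sheafPullbackConstruction.sheafPullbackIso (ProEtS.eps X) AddCommGrpCat.{u + 1}
      X.smallEtaleTopology (Scheme.ProEt.topology X)
  haveI : Mono ((Functor.sheafPullbackConstruction.sheafPullback (ProEtS.eps X) AddCommGrpCat.{u + 1}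
      X.smallEtaleTopology (Scheme.ProEt.topology X)).map f) := by
    assumption
  have h : (ProEtS.epsPull X).map f = α.hom.app F ≫ (Functor.sheafPullbackConstruction.sheafPullback (ProEtS.eps X)
      AddCommGrpCat.{u + 1} X.smallEtaleTopology (Scheme.ProEt.topology X)).map f ≫ α.inv.app F' := by
    rw [← Category.assoc, ← α.hom.naturality, Category.assoc, Iso.hom_inv_id_app]
    exact (Category.comp_id _).symm
  rw [h]
  infer_instance

theorem epsPull_additive : (ProEtS.epsPull X).Additive := (ProEtS.epsAdj X).left_adjoint_additive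

theorem epsPull_preservesFiniteColimits : PreservesFiniteColimits (ProEtS.epsPull X) := by
  have : PreservesColimitsOfSize.{0, 0} (ProEtS.epsPull X) := (ProEtS.epsAdj X).leftAdjoint_preservesColimits
  infer_instance

theorem epsPull_preservesFiniteLimits : PreservesFiniteLimits (ProEtS.epsPull X) := by
  haveI := epsPull_additive (X := X)
  haveI := epsPull_preservesFiniteColimits (X := X)
  haveI := epsPull_preservesMono (X := X)
  refine ((Functor.preservesFiniteLimits_tfae (ProEtS.epsPull X)).out 0 3).1 fun S hS => ?_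
  haveI := hS.mono_f
  have h30 : PreservesFiniteColimits (ProEtS.epsPull X) ↔ ∀ (T : ShortComplex (EtCoh.Ab X)), T.ShortExact →
      (T.map (ProEtS.epsPull X)).Exact ∧ Epi ((ProEtS.epsPull X).map T.g) :=
    (Functor.preservesFiniteColimits_tfae (ProEtS.epsPull X)).out 3 0
  exact ⟨(h30.1 epsPull_preservesFiniteColimits S hS).1, inferInstance⟩

/-- The pullback of a constant sheaf is constant. -/
theorem nonempty_epsPull_const_iso (M : AddCommGrpCat.{u + 1}) :
    Nonempty ((ProEtS.epsPull X).obj ((constantSheaf X.smallEtaleTopology AddCommGrpCat.{u + 1}).obj M) ≅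
      (constantSheaf (Scheme.ProEt.topology X) AddCommGrpCat.{u + 1}).obj M) := by
  let T : X.ProEt := (ProEtS.eps X).obj (EtCoh.top X)
  let hT : IsTerminal T := IsTerminal.ofUniqueHom
    (fun Z => MorphismProperty.Over.homMk Z.hom (Category.comp_id _) trivial)
    fun Z m => MorphismProperty.Over.Hom.ext ((Category.comp_id m.left).symm.trans (MorphismProperty.Over.w m))
  let e : ProEtS.epsPush X ⋙ (sheafSections X.smallEtaleTopology AddCommGrpCat.{u + 1}).obj (op (EtCoh.top X)) ≅
      (sheafSections (Scheme.ProEt.topology X) AddCommGrpCat.{u + 1}).obj (op T) :=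
    NatIso.ofComponents (fun G => Iso.refl _)
      (fun φ => (Category.comp_id _).trans (Category.id_comp _).symm)
  exact ⟨(Adjunction.leftAdjointUniq
    (((constantSheafAdj X.smallEtaleTopology AddCommGrpCat.{u + 1} (EtCore.topIsTerminal X)).comp
      (ProEtS.epsAdj X)).ofNatIsoRight e)
    (constantSheafAdj (Scheme.ProEt.topology X) AddCommGrpCat.{u + 1} hT)).app M⟩

end Groth.Agent.H1EpsS
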