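import Groth.Agent.H1EpsS.Acyclic
import Groth.Agent.H1EpsS.Exact
import Groth.Agent.H10Coh.DerivedShift
import Groth.Agent.H18Ext.AdjAcyclic

/-!
# Higher direct images from the pro-etale to the etale site vanish on pullbacks
-/

set_option autoImplicit false
set_option backward.isDefEq.respectTransparency false
set_option linter.style.haveILetI false

universe u

open CategoryTheory CategoryTheory.Limits AlgebraicGeometry Opposite
open Groth.Agent.H16Derived.AcyclicLES (IsAcyclic)
open Groth.Agent.H18Et.AffineCriterion (openObj openHom)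

namespace Groth.Agent.H1EpsS

variable {X : Scheme.{u}} [ProEtS.EpsCont X]

theorem epi_epsPush (I : EtCoh.Ab X) [Injective I] {S : ShortComplex (ProEtS.AbP X)} (hS : S.ShortExact)
    (h₁ : IsAcyc ((ProEtS.epsPull X).obj I).obj S.X₁) : Epi ((ProEtS.epsPush X).map S.g) := by
  let g := (ProEtS.epsPush X).map S.g
  suffices Sheaf.IsLocallySurjective g from (Sheaf.isLocallySurjective_iff_epi' _ g).1 this
  refine ⟨fun {V} s => ?_⟩
  obtain ⟨κ, W, hW, hcov⟩ := exists_open_cover_etale V
  refine X.smallEtaleTopology.superset_covering ?_ hcov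
  rw [Sieve.ofArrows, Sieve.generate_le_iff, Presieve.ofArrows_le_iff]
  intro k
  haveI : IsAffine ((ProEtS.eps X).obj (openObj V (W k))).left := hW k
  exact surjective_sections hS h₁ (good_etale I (U := (ProEtS.eps X).obj (openObj V (W k))) (openObj V (W k)).prop)
    (((ProEtS.epsPush X).obj S.X₃).obj.map (openHom V (W k)).op s)

theorem isAcyclic_of_isAcyc (I : EtCoh.Ab X) [Injective I] (M : ProEtS.AbP X)
    (hM : IsAcyc ((ProEtS.epsPull X).obj I).obj M) : IsAcyclic (ProEtS.epsPush X) M := by
  refine H10Coh.isAcyclic_of_class (ProEtS.epsPush X) (IsAcyc ((ProEtS.epsPull X).obj I).obj) (fun N hN => ?_) M hM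
  let S := ShortComplex.mk (Injective.ι N) (cokernel.π (Injective.ι N)) (cokernel.condition _)
  have hS : S.ShortExact := { exact := ShortComplex.exact_of_g_is_cokernel _ (cokernelIsCokernel _) }
  exact ⟨S, hS, rfl, inferInstanceAs (Injective (Injective.under N)),
    isAcyc_X₃ (isLP_eps I) hS hN (isAcyc_of_injective (Injective.under N)), epi_epsPush I hS hN⟩

theorem isAcyclic_epsPull_injective (I : EtCoh.Ab X) [Injective I] :
    IsAcyclic (ProEtS.epsPush X) ((ProEtS.epsPull X).obj I) :=
  isAcyclic_of_isAcyc I _ fun _ _ _ hU hv => van_of_isCov (isLP_eps I) hU hv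

theorem isAcyclic_epsPull (F : EtCoh.Ab X) : IsAcyclic (ProEtS.epsPush X) ((ProEtS.epsPull X).obj F) := by
  haveI := epsPull_additive (X := X)
  haveI := epsPull_preservesFiniteColimits (X := X)
  haveI := epsPull_preservesFiniteLimits (X := X)
  intro i hi
  obtain ⟨m, rfl⟩ := Nat.exists_eq_succ_of_ne_zero hi.ne'
  induction m generalizing F with
  | zero =>
    have hS := H10Coh.injSeq_shortExact F
    haveI hI : Injective (H10Coh.injSeq F).X₂ := inferInstanceAs (Injective (Injective.under F))
    have hS' := hS.map_of_exact (ProEtS.epsPull X)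
    obtain ⟨e⟩ := H10Coh.nonempty_rightDerived_one (ProEtS.epsPush X) hS'
      (isAcyclic_epsPull_injective (H10Coh.injSeq F).X₂)
    haveI : Epi ((ProEtS.epsPush X).map ((ProEtS.epsPull X).map (H10Coh.injSeq F).g)) := by
      haveI := hS.epi_g
      haveI := isIso_unit (H10Coh.injSeq F).X₃
      haveI : Epi ((ProEtS.epsAdj X).unit.app (H10Coh.injSeq F).X₂ ≫
          (ProEtS.epsPush X).map ((ProEtS.epsPull X).map (H10Coh.injSeq F).g)) := by
        have := (ProEtS.epsAdj X).unit.naturality (H10Coh.injSeq F).g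
        dsimp at this
        rw [← this]
        infer_instance
      exact epi_of_epi ((ProEtS.epsAdj X).unit.app (H10Coh.injSeq F).X₂) _
    exact (isZero_cokernel_of_epi ((ProEtS.epsPush X).map ((ProEtS.epsPull X).map (H10Coh.injSeq F).g))).of_iso e
  | succ m ih =>
    have hS := H10Coh.injSeq_shortExact F
    haveI hI : Injective (H10Coh.injSeq F).X₂ := inferInstanceAs (Injective (Injective.under F))
    have hS' := hS.map_of_exact (ProEtS.epsPull X)
    obtain ⟨e⟩ := H10Coh.nonempty_rightDerived_shift (ProEtS.epsPush X) hS'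
      (isAcyclic_epsPull_injective (H10Coh.injSeq F).X₂) m
    exact (ih (H10Coh.injSeq F).X₃ (Nat.succ_pos m)).of_iso e

theorem nonempty_H_equiv (F : EtCoh.Ab X) (n : ℕ) :
    Nonempty (EtCoh.H X F n ≃+ ProEtS.HP X ((ProEtS.epsPull X).obj F) n) := by
  haveI := epsPull_additive (X := X)
  haveI := epsPull_preservesFiniteColimits (X := X)
  haveI := epsPull_preservesFiniteLimits (X := X)
  haveI : PreservesFiniteLimits (ProEtS.epsPush X) :=
    have : PreservesLimitsOfSize.{0, 0} (ProEtS.epsPush X) := (ProEtS.epsAdj X).rightAdjoint_preservesLimits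
    inferInstance
  obtain ⟨c⟩ := nonempty_epsPull_const_iso (X := X) (AddCommGrpCat.of (ULift.{u + 1} ℤ))
  haveI := isIso_unit F
  let ψ := H18Ext.psi (ProEtS.epsPull X) (ProEtS.epsPush X) (ProEtS.epsAdj X) c.inv ((ProEtS.epsPull X).obj F) n
  have hψ : Function.Bijective ψ := H18Ext.psi_bijective (ProEtS.epsPull X) (ProEtS.epsPush X) (ProEtS.epsAdj X)
    c.inv n _ (isAcyclic_epsPull F)
  let u' : EtCoh.H X F n →+ Abelian.Ext ((constantSheaf X.smallEtaleTopology AddCommGrpCat.{u + 1}).obj
      (AddCommGrpCat.of (ULift ℤ))) ((ProEtS.epsPush X).obj ((ProEtS.epsPull X).obj F)) n :=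
    (Abelian.Ext.mk₀ ((ProEtS.epsAdj X).unit.app F)).postcomp _ (add_zero n)
  have hu : Function.Bijective u' := by
    refine Function.bijective_iff_has_inverse.2
      ⟨fun x => x.comp (Abelian.Ext.mk₀ (inv ((ProEtS.epsAdj X).unit.app F))) (add_zero n), fun x => ?_, fun x => ?_⟩
    · show (x.comp (Abelian.Ext.mk₀ ((ProEtS.epsAdj X).unit.app F)) (add_zero n)).comp _ _ = x
      rw [Abelian.Ext.comp_assoc_of_second_deg_zero, Abelian.Ext.mk₀_comp_mk₀, IsIso.hom_inv_id]
      exact Abelian.Ext.comp_mk₀_id x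
    · show (x.comp _ (add_zero n)).comp (Abelian.Ext.mk₀ ((ProEtS.epsAdj X).unit.app F)) (add_zero n) = x
      rw [Abelian.Ext.comp_assoc_of_second_deg_zero, Abelian.Ext.mk₀_comp_mk₀, IsIso.inv_hom_id]
      exact Abelian.Ext.comp_mk₀_id x
  exact ⟨AddEquiv.ofBijective (ψ.comp u') (hψ.comp hu)⟩

end Groth.Agent.H1EpsS
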