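import Groth.Agent.H1EpsS.PushSheaf
import Groth.Agent.H1EpsS.Derived

/-!
# Higher direct images commute with the pro-etale pullback
-/

set_option autoImplicit false
set_option backward.isDefEq.respectTransparency false
set_option linter.style.haveILetI false

universe u

open CategoryTheory CategoryTheory.Limits AlgebraicGeometry Opposite
open Groth.Agent.H16Derived.AcyclicLES (IsAcyclic)

namespace Groth.Agent.H1EpsS

variable {X Y : Scheme.{u}} [ProEtS.EpsCont X] [ProEtS.EpsCont Y] (f : X ⟶ Y) [QuasiCompact f]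
  [QuasiSeparated f] [ProEtS.PCont f]

omit [ProEtS.EpsCont Y] in
theorem epi_pushP (I : EtCoh.Ab X) [Injective I] {S : ShortComplex (ProEtS.AbP X)} (hS : S.ShortExact)
    (h₁ : IsQAcyc I S.X₁) : Epi ((ProEtS.pushP f).map S.g) := by
  let g := (ProEtS.pushP f).map S.g
  suffices Sheaf.IsLocallySurjective g from (Sheaf.isLocallySurjective_iff_epi' _ g).1 this
  refine ⟨fun {V} s => ?_⟩
  obtain ⟨κ, W, a, hW, hcov⟩ := exists_basic_cover V
  refine (Scheme.ProEt.topology Y).superset_covering ?_ hcov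
  rw [Sieve.ofArrows, Sieve.generate_le_iff, Presieve.ofArrows_le_iff]
  intro k
  exact surjective_sections_qgood hS h₁ (isQGood_bc f (hW k))
    (((ProEtS.pushP f).obj S.X₃).obj.map (a k).op s)

omit [ProEtS.EpsCont Y] in
theorem preservesFiniteLimits_pushP : PreservesFiniteLimits (ProEtS.pushP f) :=
  have : PreservesLimitsOfSize.{0, 0} (ProEtS.pushP f) := (ProEtS.pullPushAdjP f).rightAdjoint_preservesLimits
  inferInstance

omit [ProEtS.EpsCont Y] in
theorem isAcyclic_pushP_eps (I : EtCoh.Ab X) [Injective I] :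
    IsAcyclic (ProEtS.pushP f) ((ProEtS.epsPull X).obj I) := by
  haveI := preservesFiniteLimits_pushP f
  refine H10Coh.isAcyclic_of_class (ProEtS.pushP f) (IsQAcyc I) (fun N hN => ?_) _ (isQAcyc_eps I)
  let S := ShortComplex.mk (Injective.ι N) (cokernel.π (Injective.ι N)) (cokernel.condition _)
  have hS : S.ShortExact := { exact := ShortComplex.exact_of_g_is_cokernel _ (cokernelIsCokernel _) }
  exact ⟨S, hS, rfl, inferInstanceAs (Injective (Injective.under N)),
    isQAcyc_X₃ hS hN (isQAcyc_of_injective I (Injective.under N)), epi_pushP f I hS hN⟩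

theorem nonempty_RpushP_iso (q : ℕ) (F : EtCoh.Ab X) :
    Nonempty ((ProEtS.RpushP f q).obj ((ProEtS.epsPull X).obj F) ≅
      (ProEtS.epsPull Y).obj ((EtCoh.Rpush f q).obj F)) := by
  haveI := preservesFiniteLimits_pushP f
  haveI : PreservesFiniteLimits (EtCoh.push f) :=
    have : PreservesLimitsOfSize.{0, 0} (EtCoh.push f) := (EtCoh.pullPushAdj f).rightAdjoint_preservesLimits
    inferInstance
  haveI := epsPull_additive (X := X)
  haveI := epsPull_preservesFiniteColimits (X := X)
  haveI := epsPull_preservesFiniteLimits (X := X)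
  haveI := epsPull_additive (X := Y)
  haveI := epsPull_preservesFiniteColimits (X := Y)
  haveI : ∀ G : EtCoh.Ab X, IsIso ((cmp f).app G) := isIso_cmp f
  rcases q with _ | m
  · exact ⟨(ProEtS.pushP f).rightDerivedZeroIsoSelf.app _ ≪≫ (asIso ((cmp f).app F)).symm ≪≫
      (ProEtS.epsPull Y).mapIso ((EtCoh.push f).rightDerivedZeroIsoSelf.app F).symm⟩
  have hS := H10Coh.injSeq_shortExact F
  haveI hI : Injective (H10Coh.injSeq F).X₂ := inferInstanceAs (Injective (Injective.under F))
  have hS' := hS.map_of_exact (ProEtS.epsPull X)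
  induction m generalizing F with
  | zero =>
    obtain ⟨e⟩ := H10Coh.nonempty_rightDerived_one (ProEtS.pushP f) hS'
      (isAcyclic_pushP_eps f (H10Coh.injSeq F).X₂)
    obtain ⟨e'⟩ := H10Coh.nonempty_rightDerived_one (EtCoh.push f) hS
      (H16Derived.AcyclicLES.isAcyclic_of_injective _ (H10Coh.injSeq F).X₂)
    refine ⟨e ≪≫ ?_ ≪≫ (ProEtS.epsPull Y).mapIso e'.symm⟩
    exact (cokernel.mapIso ((ProEtS.epsPull Y).map ((EtCoh.push f).map (H10Coh.injSeq F).g))
      ((ProEtS.pushP f).map ((ProEtS.epsPull X).map (H10Coh.injSeq F).g))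
      (asIso ((cmp f).app _)) (asIso ((cmp f).app _)) ((cmp f).naturality _)).symm ≪≫
      (PreservesCokernel.iso (ProEtS.epsPull Y) ((EtCoh.push f).map (H10Coh.injSeq F).g)).symm
  | succ m ih =>
    obtain ⟨e⟩ := H10Coh.nonempty_rightDerived_shift (ProEtS.pushP f) hS'
      (isAcyclic_pushP_eps f (H10Coh.injSeq F).X₂) m
    obtain ⟨e'⟩ := H10Coh.nonempty_rightDerived_shift (EtCoh.push f) hS
      (H16Derived.AcyclicLES.isAcyclic_of_injective _ (H10Coh.injSeq F).X₂) m
    obtain ⟨e''⟩ := ih (H10Coh.injSeq F).X₃ (H10Coh.injSeq_shortExact _)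
      (inferInstanceAs (Injective (Injective.under _)))
      ((H10Coh.injSeq_shortExact _).map_of_exact (ProEtS.epsPull X))
    exact ⟨e ≪≫ e'' ≪≫ (ProEtS.epsPull Y).mapIso e'.symm⟩

end Groth.Agent.H1EpsS
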