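import Groth.Agent.H1EpsS.QCech
import Groth.Agent.H1EpsS.Exact

/-!
# Direct images commute with the pro-etale pullback
-/

set_option autoImplicit false
set_option backward.isDefEq.respectTransparency false
set_option linter.style.haveILetI false

universe u

open CategoryTheory CategoryTheory.Limits AlgebraicGeometry Opposite

attribute [local instance] IsCofiltered.isConnected CategoryTheory.isConnected_of_hasTerminal

namespace Groth.Agent.H1EpsS

open H26ProEt (toSch)

variable {X Y : Scheme.{u}}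

section BaseChange

variable (f : X ⟶ Y)

theorem isPullback_bcP_map {U V : Y.ProEt} (g : V ⟶ U) :
    IsPullback ((ProEtS.bcP f).map g).left (pullback.fst V.hom f : ((ProEtS.bcP f).obj V).left ⟶ V.left)
      (pullback.fst U.hom f : ((ProEtS.bcP f).obj U).left ⟶ U.left) g.left := by
  have e1 : ((ProEtS.bcP f).map g).left ≫ pullback.snd U.hom f = pullback.snd V.hom f := by
    dsimp [ProEtS.bcP]
    exact pullback.lift_snd _ _ _
  have e2 : g.left ≫ U.hom = V.hom := Over.w g.hom
  refine IsPullback.of_right (h₁₂ := pullback.snd U.hom f) (v₁₃ := f) (h₂₂ := U.hom) ?_ ?_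
    (IsPullback.of_hasPullback U.hom f).flip
  · exact (congrArg₂ (fun a d => IsPullback a (pullback.fst V.hom f) f d) e1 e2).mpr
      (IsPullback.of_hasPullback V.hom f).flip
  · dsimp [ProEtS.bcP]
    exact pullback.lift_fst _ _ _

/-- The projection from the base change. -/
noncomputable def bcFst : ProEtS.bcP f ⋙ toSch X ⟶ toSch Y where
  app V := pullback.fst V.hom f
  naturality _ _ g := (isPullback_bcP_map f g).w

variable {I : Type u} [SmallCategory I] {D : I ⥤ Y.ProEt}

/-- The base change of a cone. -/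
noncomputable abbrev bcCone (c : Cone D) : Cone (D ⋙ ProEtS.bcP f) := (ProEtS.bcP f).mapCone c

theorem nonempty_isLimit_bcCone [IsCofiltered I] {c : Cone D} (hc : IsSchLimit c) :
    Nonempty (IsSchLimit (bcCone f c)) := by
  exact ⟨isLimitOfIsPullbackOfIsConnected (Functor.whiskerLeft D (bcFst f))
    ((toSch X).mapCone (bcCone f c)) ((toSch Y).mapCone c)
    { hom := (bcFst f).app c.pt
      w := fun i => ((bcFst f).naturality (c.π.app i)).symm }
    (fun i => isPullback_bcP_map f (c.π.app i)) hc⟩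

variable [QuasiCompact f] [QuasiSeparated f]

theorem isQcqsSys_bc (hD : IsQcqsSys D) : IsQcqsSys (D ⋙ ProEtS.bcP f) where
  aff i j a := MorphismProperty.of_isPullback (P := @IsAffineHom)
    (isPullback_bcP_map f (D.map a)).flip (hD.aff a)
  qc i :=
    haveI : CompactSpace ((𝟭 Scheme.{u}).obj (D.obj i).left :) := hD.qc i
    QuasiCompact.compactSpace_of_compactSpace (pullback.fst (D.obj i).hom f)
  qs i :=
    haveI : QuasiSeparatedSpace ((𝟭 Scheme.{u}).obj (D.obj i).left :) := hD.qs i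
    quasiSeparatedSpace_of_quasiSeparated (pullback.fst (D.obj i).hom f)

omit [QuasiCompact f] [QuasiSeparated f] in
theorem etale_bc_hom {V : Y.ProEt} (hV : Etale V.hom) : Etale ((ProEtS.bcP f).obj V).hom :=
  haveI := hV
  inferInstanceAs (Etale (pullback.snd V.hom f))

end BaseChange

theorem isQcqsSys_of_affine {I : Type u} [SmallCategory I] {D : I ⥤ X.ProEt}
    (hD : ∀ i, IsAffine (D.obj i).left) : IsQcqsSys D where
  aff i j f := haveI := hD i; haveI := hD j; isAffineHom_of_isAffine _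
  qc i := haveI := hD i; inferInstance
  qs i := haveI := hD i; inferInstance

/-- Limits of affine etale objects. -/
def IsBasic (V : Y.ProEt) : Prop :=
  IsAffine V.left ∧ ∃ (I : Type u) (_ : SmallCategory I) (_ : IsCofiltered I) (D : I ⥤ Y.ProEt)
    (π : (Functor.const I).obj V ⟶ D),
    Nonempty (IsSchLimit (Cone.mk V π)) ∧ (∀ i, IsAffine (D.obj i).left) ∧ ∀ i, Etale (D.obj i).hom

/-- Every object is covered by basic ones. -/
theorem exists_basic_cover (V : Y.ProEt) :
    ∃ (κ : Type u) (W : κ → Y.ProEt) (g : ∀ k, W k ⟶ V),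
      (∀ k, IsBasic (W k)) ∧ Sieve.ofArrows W g ∈ Scheme.ProEt.topology Y V := by
  classical
  have h : ∀ v : V.left, ∃ (O : V.left.Opens) (A : Y.Opens), IsAffineOpen O ∧ IsAffineOpen A ∧ v ∈ O ∧
      O ≤ V.hom ⁻¹ᵁ A := fun v => by
    obtain ⟨A, hA, hvA, -⟩ := exists_isAffineOpen_mem_and_subset (x := V.hom v) (U := ⊤) trivial
    obtain ⟨O, hO, hvO, hle⟩ := exists_isAffineOpen_mem_and_subset (x := v) (U := V.hom ⁻¹ᵁ A) hvA
    exact ⟨O, A, hO, hA, hvO, hle⟩
  choose O A hO hA hvO hle using h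
  haveI : ∀ v, WeaklyEtale ((O v).ι ≫ V.hom) := fun v => inferInstance
  let W₀ : V.left → Y.ProEt := fun v => Scheme.ProEt.mk ((O v).ι ≫ V.hom)
  let B : V.left → Y.ProEt := fun v => Scheme.ProEt.mk (A v).ι
  let w : ∀ v, W₀ v ⟶ V := fun v => MorphismProperty.Over.homMk (O v).ι rfl trivial
  let b : ∀ v, W₀ v ⟶ B v := fun v =>
    MorphismProperty.Over.homMk (IsOpenImmersion.lift (A v).ι ((O v).ι ≫ V.hom) (by
      rintro _ ⟨x, rfl⟩
      exact (Scheme.Opens.range_ι (A v)).symm ▸ hle v x.2))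
      (IsOpenImmersion.lift_fac _ _ _) trivial
  haveI : ∀ v, IsAffine (W₀ v).left := hO
  haveI : ∀ v, IsAffine (B v).left := hA
  choose I _ _ D c d e hc hT hD hde hes hd he using fun v => exists_indEtale_refinement (b v)
  refine ⟨V.left, fun v => (c v).pt, fun v => e v ≫ w v, fun v => ⟨hT v, I v, inferInstance, inferInstance,
    D v, (c v).π, hc v, hD v, fun i => ?_⟩, ?_⟩
  · haveI := hde v i
    rw [← MorphismProperty.Over.w (d v i)]
    exact inferInstanceAs (Etale ((d v i).left ≫ (A v).ι))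
  · have h₀ : Sieve.ofArrows W₀ w ∈ Scheme.ProEt.topology Y V :=
      etTop_le _ (ofArrows_mem _ (fun v => inferInstanceAs (Etale (O v).ι)) fun x => ⟨x, ⟨x, hvO x⟩, rfl⟩)
    let T := Scheme.ProEt.topology Y
    refine T.transitive h₀ _ ?_
    rintro Z q ⟨W', a, _, ⟨v⟩, rfl⟩
    rw [Sieve.pullback_comp]
    refine T.pullback_stable a ?_
    haveI := hes v
    haveI : ∀ _ : PUnit.{1}, IsAffine (c v).pt.left := fun _ => hT v
    refine T.superset_covering ?_
      (H26ProEt.mem_topology_of_finite_affine (ι := PUnit.{1}) (fun _ => (c v).pt) (fun _ => e v)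
        fun x => ⟨⟨⟩, (e v).left.surjective x⟩)
    rintro Z' q' ⟨W'', a', _, ⟨-⟩, rfl⟩
    exact ⟨_, a', _, ⟨v⟩, (Category.assoc _ _ _).symm⟩

theorem isQGood_bc (f : X ⟶ Y) [QuasiCompact f] [QuasiSeparated f] {V : Y.ProEt} (hV : IsBasic V) :
    QGood ((ProEtS.bcP f).obj V) := by
  obtain ⟨-, I, _, _, D, π, ⟨hc⟩, hD, het⟩ := hV
  exact ⟨I, inferInstance, inferInstance, D ⋙ ProEtS.bcP f, (bcCone f (Cone.mk V π)).π,
    nonempty_isLimit_bcCone f hc, isQcqsSys_bc f (isQcqsSys_of_affine hD), fun i => etale_bc_hom f (het i)⟩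

variable [ProEtS.EpsCont X] [ProEtS.EpsCont Y] (f : X ⟶ Y) [ProEtS.PCont f]

/-- Restriction to the etale sites commutes with direct images. -/
noncomputable def pushCommIso : ProEtS.epsPush X ⋙ EtCoh.push f ≅ ProEtS.pushP f ⋙ ProEtS.epsPush Y :=
  Iso.refl _

/-- The comparison map. -/
noncomputable def cmp : EtCoh.push f ⋙ ProEtS.epsPull Y ⟶ ProEtS.epsPull X ⋙ ProEtS.pushP f where
  app F := ((ProEtS.epsAdj Y).homEquiv _ _).symm
    ((EtCoh.push f).map ((ProEtS.epsAdj X).unit.app F) ≫ (pushCommIso f).hom.app ((ProEtS.epsPull X).obj F))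
  naturality {F F'} φ := by
    show (ProEtS.epsPull Y).map ((EtCoh.push f).map φ) ≫ _ =
      _ ≫ (ProEtS.pushP f).map ((ProEtS.epsPull X).map φ)
    refine (((ProEtS.epsAdj Y).homEquiv_naturality_left_symm _ _).symm.trans (congrArg _ ?_)).trans
      ((ProEtS.epsAdj Y).homEquiv_naturality_right_symm _ _)
    rw [← Category.assoc, ← Functor.map_comp, Category.assoc]
    erw [(ProEtS.epsAdj X).unit.naturality φ]
    rw [Functor.map_comp, Category.assoc]
    congr 1

variable [QuasiCompact f] [QuasiSeparated f]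

theorem cmp_bijective_etale (F : EtCoh.Ab X) (V : Y.Etale) :
    Function.Bijective (((cmp f).app F).hom.app (op ((ProEtS.eps Y).obj V))) := by
  haveI := isIso_unit ((EtCoh.push f).obj F)
  haveI := isIso_unit F
  have h : (ProEtS.epsAdj Y).unit.app ((EtCoh.push f).obj F) ≫ (ProEtS.epsPush Y).map ((cmp f).app F) =
      (EtCoh.push f).map ((ProEtS.epsAdj X).unit.app F) ≫ (pushCommIso f).hom.app ((ProEtS.epsPull X).obj F) := by
    exact (Adjunction.homEquiv_unit (ProEtS.epsAdj Y) _ _ _).symm.trans (Equiv.apply_symm_apply _ _)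
  haveI : IsIso ((ProEtS.epsAdj Y).unit.app ((EtCoh.push f).obj F) ≫
      (ProEtS.epsPush Y).map ((cmp f).app F)) := by rw [h]; infer_instance
  haveI : IsIso ((ProEtS.epsPush Y).map ((cmp f).app F)) :=
    IsIso.of_isIso_comp_left ((ProEtS.epsAdj Y).unit.app ((EtCoh.push f).obj F)) _
  haveI : IsIso (((sheafToPresheaf _ _).map ((ProEtS.epsPush Y).map ((cmp f).app F))).app (op V)) := inferInstance
  exact (ConcreteCategory.isIso_iff_bijective _).1 this

theorem cmp_bijective_basic (F : EtCoh.Ab X) {V : Y.ProEt} (hV : IsBasic V) :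
    Function.Bijective (((cmp f).app F).hom.app (op V)) := by
  obtain ⟨hVa, I, _, _, D, π, ⟨hc⟩, hD, het⟩ := hV
  let φ := ((cmp f).app F).hom
  let M := ((ProEtS.epsPull Y).obj ((EtCoh.push f).obj F)).obj
  let G := ((ProEtS.epsPull X).obj F).obj
  have hstage : ∀ i, Function.Bijective (φ.app (op (D.obj i))) := fun i =>
    cmp_bijective_etale f F (etObj (D.obj i) (het i))
  obtain ⟨hlift, hev⟩ := isLP_eps ((EtCoh.push f).obj F) D (Cone.mk V π) hc hD hVa
  have hsG : Presieve.IsSheaf (etTop X) (G ⋙ forget AddCommGrpCat.{u + 1}) :=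
    fun {Z} R hR => isSheaf_eps F R (etTop_le _ hR)
  obtain ⟨hl⟩ := nonempty_isLimit_bcCone f hc
  have hD' := isQcqsSys_bc f (isQcqsSys_of_affine hD)
  refine ⟨fun x x' h => ?_, fun y => ?_⟩
  · obtain ⟨i, z, rfl⟩ := hlift x
    obtain ⟨j, z', rfl⟩ := hlift x'
    obtain ⟨m, p, q, -⟩ := IsCofilteredOrEmpty.cone_objs i j
    change φ.app _ (M.map (π.app i).op z) = φ.app _ (M.map (π.app j).op z') at h
    replace h := ((NatTrans.naturality_apply φ (π.app i).op z).symm.trans h).trans
      (NatTrans.naturality_apply φ (π.app j).op z')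
    have hc' : ∀ {k : I} (r : m ⟶ k) (v : G.obj (op ((ProEtS.bcP f).obj (D.obj k)))),
        G.map ((ProEtS.bcP f).map (π.app m)).op (G.map ((ProEtS.bcP f).map (D.map r)).op v) =
          G.map ((ProEtS.bcP f).map (π.app k)).op v := fun r v => by
      rw [← Functor.map_comp_apply, ← op_comp, ← Functor.map_comp, (Cone.mk V π).w r]
      rfl
    obtain ⟨n, a, ha⟩ := evEq_of_qcqs hsG (isLP_eps F) hl hD' m
      (G.map ((ProEtS.bcP f).map (D.map p)).op (φ.app _ z)) (G.map ((ProEtS.bcP f).map (D.map q)).op (φ.app _ z'))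
      ((hc' p _).trans (h.trans (hc' q _).symm))
    have hd : ∀ {k : I} (r : m ⟶ k) (v : M.obj (op (D.obj k))),
        φ.app _ (M.map (D.map (a ≫ r)).op v) =
          G.map ((ProEtS.bcP f).map (D.map a)).op (G.map ((ProEtS.bcP f).map (D.map r)).op (φ.app _ v)) := fun r v => by
      rw [← Functor.map_comp_apply, ← op_comp, ← Functor.map_comp, ← D.map_comp]
      exact NatTrans.naturality_apply φ _ v
    have key : M.map (D.map (a ≫ p)).op z = M.map (D.map (a ≫ q)).op z' :=
      (hstage n).1 ((hd p z).trans (ha.trans (hd q z').symm))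
    show M.map (π.app i).op z = M.map (π.app j).op z'
    rw [← (Cone.mk V π).w (a ≫ p), ← (Cone.mk V π).w (a ≫ q), op_comp, op_comp, Functor.map_comp_apply,
      Functor.map_comp_apply, key]
    rfl
  · obtain ⟨i, z, hz⟩ := lifts_of_qcqs hsG (isLP_eps F) hl hD' y
    obtain ⟨z₀, rfl⟩ := (hstage i).2 z
    exact ⟨M.map (π.app i).op z₀, (NatTrans.naturality_apply φ _ z₀).trans hz⟩

theorem isIso_cmp (F : EtCoh.Ab X) : IsIso ((cmp f).app F) := by
  let φ := ((cmp f).app F).hom
  let M := (ProEtS.epsPull Y).obj ((EtCoh.push f).obj F)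
  let N := (ProEtS.pushP f).obj ((ProEtS.epsPull X).obj F)
  let ψ : M ⟶ N := (cmp f).app F
  refine (Sheaf.isLocallyBijective_iff_isIso ψ).1 ⟨⟨fun {U} x y h => ?_⟩, ⟨fun {U} s => ?_⟩⟩
  · obtain ⟨κ, W, g, hW, hcov⟩ := exists_basic_cover U.unop
    refine (Scheme.ProEt.topology Y).superset_covering ?_ hcov
    rw [Sieve.ofArrows, Sieve.generate_le_iff, Presieve.ofArrows_le_iff]
    intro k
    refine (cmp_bijective_basic f F (hW k)).1 ?_
    show ψ.hom.app _ (M.obj.map (g k).op x) = ψ.hom.app _ (M.obj.map (g k).op y)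
    rw [NatTrans.naturality_apply, NatTrans.naturality_apply]
    exact congrArg _ h
  · obtain ⟨κ, W, g, hW, hcov⟩ := exists_basic_cover U
    refine (Scheme.ProEt.topology Y).superset_covering ?_ hcov
    rw [Sieve.ofArrows, Sieve.generate_le_iff, Presieve.ofArrows_le_iff]
    intro k
    exact (cmp_bijective_basic f F (hW k)).2 _

end Groth.Agent.H1EpsS
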