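import Groth.Agent.H1EpsS.Compare
import Groth.Agent.H18Et.AffineCriterion

/-!
# The unit of the comparison between etale and pro-etale sheaves is an isomorphism
-/

set_option autoImplicit false
set_option backward.isDefEq.respectTransparency false
set_option linter.style.haveILetI false

universe u

open CategoryTheory CategoryTheory.Limits AlgebraicGeometry Opposite

namespace Groth.Agent.H1EpsS

open H26ProEt (toSch)
open H18Et.AffineCriterion (openObj openHom mem_etale_iff etale_of_hom)

attribute [local instance] flat_eps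

variable {X : Scheme.{u}} [ProEtS.EpsCont X] (F : EtCoh.Ab X)

theorem unit_app_hom_app (V : X.Etale) (x : F.obj.obj (op V)) :
    ((ProEtS.epsAdj X).unit.app F).hom.app (op V) x =
      (preToEps F).app (op ((ProEtS.eps X).obj V)) ((preUnit F.obj).app (op V) x) := by
  have h := Adjunction.unit_leftAdjointUniq_hom_app (ProEtS.epsAdj X)
    (Functor.sheafPullbackConstruction.sheafAdjunctionContinuous (ProEtS.eps X) AddCommGrpCat.{u + 1}
      X.smallEtaleTopology (Scheme.ProEt.topology X)) F
  let e := Adjunction.leftAdjointUniq (ProEtS.epsAdj X)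
    (Functor.sheafPullbackConstruction.sheafAdjunctionContinuous (ProEtS.eps X) AddCommGrpCat.{u + 1}
      X.smallEtaleTopology (Scheme.ProEt.topology X))
  have h2 : (ProEtS.epsAdj X).unit.app F =
      (Functor.sheafPullbackConstruction.sheafAdjunctionContinuous (ProEtS.eps X) AddCommGrpCat.{u + 1}
        X.smallEtaleTopology (Scheme.ProEt.topology X)).unit.app F ≫
        (ProEtS.epsPush X).map (e.inv.app F) := by
    rw [← h, Category.assoc, ← Functor.map_comp, Iso.hom_inv_id_app, CategoryTheory.Functor.map_id]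
    exact (Category.comp_id _).symm
  have h3 : ((Functor.sheafPullbackConstruction.sheafAdjunctionContinuous (ProEtS.eps X) AddCommGrpCat.{u + 1}
        X.smallEtaleTopology (Scheme.ProEt.topology X)).unit.app F).hom =
      preUnit F.obj ≫ Functor.whiskerLeft (ProEtS.eps X).op
        (toSheafify (Scheme.ProEt.topology X) (preEps F.obj)) := by
    show (sheafToPresheaf X.smallEtaleTopology AddCommGrpCat.{u + 1}).map
      ((Functor.sheafPullbackConstruction.sheafAdjunctionContinuous (ProEtS.eps X) AddCommGrpCat.{u + 1}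
        X.smallEtaleTopology (Scheme.ProEt.topology X)).unit.app F) = _
    delta Functor.sheafPullbackConstruction.sheafAdjunctionContinuous
    erw [Adjunction.map_restrictFullyFaithful_unit_app]
    rw [Adjunction.comp_unit_app, Functor.lanAdjunction_unit]
    ext U y
    simp [sheafificationAdjunction_unit_app]
  rw [h2]
  show (e.inv.app F).hom.app _ (((Functor.sheafPullbackConstruction.sheafAdjunctionContinuous (ProEtS.eps X)
    AddCommGrpCat.{u + 1} X.smallEtaleTopology (Scheme.ProEt.topology X)).unit.app F).hom.app (op V) x) = _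
  rw [h3]
  rfl

instance (X : Scheme.{u}) : (ProEtS.eps X).Faithful :=
  ⟨fun {_ _} f g h => MorphismProperty.Over.Hom.ext (congrArg (fun q => q.left) h)⟩

instance (X : Scheme.{u}) : (ProEtS.eps X).Full :=
  ⟨fun {_ _} f => ⟨MorphismProperty.Over.homMk f.left (MorphismProperty.Over.w f) trivial,
    MorphismProperty.Over.Hom.ext rfl⟩⟩

/-- An object of the pro-etale site that is etale. -/
noncomputable abbrev etObj (W : X.ProEt) (h : Etale W.hom) : X.Etale := MorphismProperty.Over.mk ⊤ W.hom h

/-- The canonical morphism from an etale object to its counterpart. -/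
noncomputable abbrev toEtObj (W : X.ProEt) (h : Etale W.hom) : W ⟶ (ProEtS.eps X).obj (etObj W h) :=
  MorphismProperty.Over.homMk (𝟙 W.left) (Category.id_comp _) trivial

/-- The inverse of the canonical morphism. -/
noncomputable abbrev ofEtObj (W : X.ProEt) (h : Etale W.hom) : (ProEtS.eps X).obj (etObj W h) ⟶ W :=
  MorphismProperty.Over.homMk (𝟙 W.left) (Category.id_comp _) trivial

theorem mem_smallEtale {B : X.Etale} {κ : Type u} {V : κ → X.Etale} (g : ∀ k, V k ⟶ B)
    (hs : ∀ b : B.left, ∃ (k : κ) (y : (V k).left), (g k).left y = b) :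
    Sieve.ofArrows V g ∈ X.smallEtaleTopology B :=
  mem_etale_iff.2 fun b => by
    obtain ⟨k, y, hy⟩ := hs b
    exact ⟨V k, g k, y, Sieve.ofArrows_mk _ _ k, etale_of_hom _, hy⟩

theorem isSheaf_F : Presieve.IsSheaf X.smallEtaleTopology (F.obj ⋙ forget _) :=
  (isSheaf_iff_isSheaf_of_type _ _).1 ((Presheaf.isSheaf_iff_isSheaf_forget _ _ (forget _)).1 F.property)

omit [ProEtS.EpsCont X] in
theorem preUnit_eq_mk (V : X.Etale) (x : F.obj.obj (op V)) :
    (preUnit F.obj).app (op V) x = mk (𝟙 ((ProEtS.eps X).obj V)) x := by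
  simp [mk]

omit [ProEtS.EpsCont X] in
theorem preUnit_bijective (V : X.Etale) : Function.Bijective ((preUnit F.obj).app (op V)) := by
  haveI : (ProEtS.eps X).Full := inferInstance
  refine ⟨fun x y h => ?_, fun r => ?_⟩
  · rw [preUnit_eq_mk, preUnit_eq_mk] at h
    obtain ⟨V', g, a, hga, hxy⟩ := (exists_rep_and_eq _).2 _ x y h
    obtain ⟨s, rfl⟩ := (ProEtS.eps X).map_surjective a
    have hs : s ≫ g = 𝟙 V := (ProEtS.eps X).map_injective (by rw [Functor.map_comp, CategoryTheory.Functor.map_id]; exact hga)
    have := congrArg (F.obj.map s.op) hxy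
    simpa [← Functor.map_comp_apply, ← op_comp, hs] using this
  · obtain ⟨V', a, x, rfl⟩ := (exists_rep_and_eq _).1 r
    obtain ⟨s, rfl⟩ := (ProEtS.eps X).map_surjective a
    exact ⟨F.obj.map s.op x, by rw [preUnit_eq_mk, mk_map, Category.id_comp]⟩

theorem etale_hom_of_etale {V : X.Etale} {W : X.ProEt} (g : W ⟶ (ProEtS.eps X).obj V) (hg : Etale g.left) :
    Etale W.hom := by
  haveI : Etale V.hom := V.prop
  rw [← MorphismProperty.Over.w g]
  exact inferInstanceAs (Etale (g.left ≫ V.hom))

theorem isAffine_etale_pullback {A B C : X.Etale} (f : A ⟶ C) (g : B ⟶ C)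
    [IsAffine A.left] [IsAffine B.left] [IsAffine C.left] : IsAffine (pullback f g).left := by
  haveI : PreservesFiniteLimits (ProEtS.eps X ⋙ Scheme.ProEt.forget X) :=
    inferInstanceAs (PreservesFiniteLimits (MorphismProperty.Over.forget EtCoh.etaleMP.{u} ⊤ X))
  haveI : PreservesFiniteLimits (ProEtS.eps X) :=
    preservesFiniteLimits_of_reflects_of_preserves (ProEtS.eps X) (Scheme.ProEt.forget X)
  have h := ((IsPullback.of_hasPullback f g).map (ProEtS.eps X)).map (toSch X)
  haveI : IsAffine ((toSch X).obj ((ProEtS.eps X).obj A)) := inferInstanceAs (IsAffine A.left)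
  haveI : IsAffine ((toSch X).obj ((ProEtS.eps X).obj B)) := inferInstanceAs (IsAffine B.left)
  haveI : IsAffine ((toSch X).obj ((ProEtS.eps X).obj C)) := inferInstanceAs (IsAffine C.left)
  exact IsAffine.of_isIso h.isoPullback.hom

/-- Refine an etale covering sieve of an etale affine by etale affine objects. -/
theorem exists_etale_cover {V : X.Etale} (hV : IsAffine V.left) {T : Sieve ((ProEtS.eps X).obj V)}
    (hT : T ∈ etTop X ((ProEtS.eps X).obj V)) :
    ∃ (κ : Type u) (W : κ → X.Etale) (g : ∀ k, W k ⟶ V),
      (∀ k, IsAffine (W k).left) ∧ Sieve.ofArrows W g ∈ X.smallEtaleTopology V ∧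
        ∀ k, T ((ProEtS.eps X).map (g k)) := by
  haveI : IsAffine ((ProEtS.eps X).obj V).left := hV
  obtain ⟨κ, _, W, g, hW, hg, -, hs, hT'⟩ := exists_affine_cover hT
  refine ⟨κ, fun k => etObj (W k) (etale_hom_of_etale (g k) (hg k)),
    fun k => MorphismProperty.Over.homMk (g k).left (MorphismProperty.Over.w (g k)) trivial,
    hW, mem_smallEtale _ hs, fun k => ?_⟩
  convert T.downward_closed (hT' k) (ofEtObj (W k) (etale_hom_of_etale (g k) (hg k))) using 1
  exact MorphismProperty.Over.Hom.ext (Category.id_comp _).symm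

theorem toEt_injective_on_etale {V : X.Etale} (hV : IsAffine V.left) (x y : F.obj.obj (op V))
    (h : (toSheafify (etTop X) (preEps F.obj)).app _ ((preUnit F.obj).app (op V) x) =
      (toSheafify (etTop X) (preEps F.obj)).app _ ((preUnit F.obj).app (op V) y)) : x = y := by
  obtain ⟨κ, W, g, -, hg, hgT⟩ :=
    exists_etale_cover hV (Presheaf.equalizerSieve_mem (etTop X) _ (X := op _) _ _ h)
  refine ext_of_cover (X := F.obj ⋙ forget _) (isSheaf_F F) hg fun k =>
    (preUnit_bijective F (W k)).1 ?_
  show (preUnit F.obj).app _ (F.obj.map (g k).op x) = (preUnit F.obj).app _ (F.obj.map (g k).op y)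
  rw [NatTrans.naturality_apply, NatTrans.naturality_apply]
  exact hgT k

theorem toEt_bijective_on_etale {V : X.Etale} (hV : IsAffine V.left) :
    Function.Bijective (fun x => (toSheafify (etTop X) (preEps F.obj)).app _ ((preUnit F.obj).app (op V) x)) := by
  refine ⟨fun x y h => toEt_injective_on_etale F hV x y h, fun q => ?_⟩
  obtain ⟨κ, W, g, hW, hg, hgT⟩ :=
    exists_etale_cover hV (Presheaf.imageSieve_mem (etTop X) (toSheafify (etTop X) (preEps F.obj)) (U := op _) q)
  choose t ht using hgT
  choose s hs using fun k => (preUnit_bijective F (W k)).2 (t k)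
  obtain ⟨z, hz⟩ := exists_glue (X := F.obj ⋙ forget _) (isSheaf_F F) hg s fun k l => by
    haveI := hV
    haveI := hW k
    haveI := hW l
    refine toEt_injective_on_etale F (isAffine_etale_pullback (g k) (g l)) _ _ ?_
    have key : ∀ (m : κ) {P : X.Etale} (π : P ⟶ W m),
        (toSheafify (etTop X) (preEps F.obj)).app _ ((preUnit F.obj).app (op P) (F.obj.map π.op (s m))) =
          (etEps F).obj.map ((ProEtS.eps X).map π).op ((etEps F).obj.map ((ProEtS.eps X).map (g m)).op q) :=
      fun m P π => (congrArg _ (NatTrans.naturality_apply (preUnit F.obj) π.op (s m))).trans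
        (((congrArg _ (congrArg _ (hs m)))).trans
          ((NatTrans.naturality_apply (toSheafify (etTop X) (preEps F.obj)) ((ProEtS.eps X).map π).op (t m)).trans
            (congrArg _ (ht m))))
    refine (key k _).trans (Eq.trans ?_ (key l _).symm)
    exact map_map_of_eq ((etEps F).obj ⋙ forget _)
      ((((ProEtS.eps X).map_comp _ _).symm.trans (congrArg (ProEtS.eps X).map pullback.condition)).trans
        ((ProEtS.eps X).map_comp _ _)) q
  refine ⟨z, ext_of_cover (X := (etEps F).obj ⋙ forget _) (isSheaf_etEps F)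
    (V := fun k => (ProEtS.eps X).obj (W k)) (g := fun k => (ProEtS.eps X).map (g k))
    (ofArrows_mem _ (fun k => etale_of_hom (g k)) fun b => ?_) fun k => ?_⟩
  · obtain ⟨Z, f, y, ⟨_, a, _, ⟨k⟩, rfl⟩, -, hy⟩ := mem_etale_iff.1 hg b
    exact ⟨k, a.left y, hy⟩
  · show (etEps F).obj.map _ ((toSheafify (etTop X) (preEps F.obj)).app _ ((preUnit F.obj).app (op V) z)) =
      (etEps F).obj.map _ q
    refine Eq.trans ?_ (ht k)
    refine (NatTrans.naturality_apply (toSheafify (etTop X) (preEps F.obj)) ((ProEtS.eps X).map (g k)).op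
      ((preUnit F.obj).app (op V) z)).symm.trans ?_
    refine congrArg _ (Eq.trans ?_ (hs k))
    exact (NatTrans.naturality_apply (preUnit F.obj) (g k).op z).symm.trans (congrArg _ (hz k))

theorem unit_bijective_on_affine {V : X.Etale} (hV : IsAffine V.left) :
    Function.Bijective (((ProEtS.epsAdj X).unit.app F).hom.app (op V)) := by
  have h : ((((ProEtS.epsAdj X).unit.app F).hom.app (op V) : _ → _)) =
      (etToEps F).app (op ((ProEtS.eps X).obj V)) ∘
        (fun x => (toSheafify (etTop X) (preEps F.obj)).app _ ((preUnit F.obj).app (op V) x)) := by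
    funext x
    rw [unit_app_hom_app, ← toSheafify_etToEps]
    rfl
  rw [h]
  exact (etToEps_bijective_on_affine F (B := (ProEtS.eps X).obj V) hV).comp (toEt_bijective_on_etale F hV)

/-- An affine open covering inside the etale site. -/
theorem exists_open_cover_etale (V : X.Etale) :
    ∃ (κ : Type u) (W : κ → V.left.Opens), (∀ k, IsAffineOpen (W k)) ∧
      Sieve.ofArrows (fun k => openObj V (W k)) (fun k => openHom V (W k)) ∈ X.smallEtaleTopology V := by
  choose W hW hmem _h using fun b : V.left => exists_isAffineOpen_mem_and_subset (x := b) (U := ⊤) trivial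
  exact ⟨V.left, W, hW, mem_smallEtale _ fun b => ⟨b, ⟨b, hmem b⟩, rfl⟩⟩

theorem isIso_unit : IsIso ((ProEtS.epsAdj X).unit.app F) := by
  let G := (ProEtS.epsPush X).obj ((ProEtS.epsPull X).obj F)
  let η : F.obj ⟶ G.obj := ((ProEtS.epsAdj X).unit.app F).hom
  have hinj : ∀ V : X.Etale, Function.Injective (η.app (op V)) := fun V x y h => by
    obtain ⟨κ, W, hW, hcov⟩ := exists_open_cover_etale V
    refine ext_of_cover (X := F.obj ⋙ forget _) (isSheaf_F F) hcov fun k =>
      (unit_bijective_on_affine F (V := openObj V (W k)) (hW k)).1 ?_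
    show η.app _ (F.obj.map _ x) = η.app _ (F.obj.map _ y)
    rw [NatTrans.naturality_apply, NatTrans.naturality_apply]
    exact congrArg _ h
  have hbij : ∀ V : X.Etale, Function.Bijective (η.app (op V)) := fun V => by
    refine ⟨hinj V, fun q => ?_⟩
    obtain ⟨κ, W, hW, hcov⟩ := exists_open_cover_etale V
    choose s hs using fun k => (unit_bijective_on_affine F (V := openObj V (W k)) (hW k)).2
      (G.obj.map (openHom V (W k)).op q)
    obtain ⟨z, hz⟩ := exists_glue (X := F.obj ⋙ forget _) (isSheaf_F F) hcov s fun k l => by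
      refine hinj _ ?_
      show η.app _ (F.obj.map _ _) = η.app _ (F.obj.map _ _)
      rw [NatTrans.naturality_apply, NatTrans.naturality_apply]
      refine ((congrArg _ (hs k)).trans ?_).trans (congrArg _ (hs l)).symm
      exact (Functor.map_comp_apply _ _ _ _).symm.trans ((congrArg (fun m => G.obj.map m q)
        (congrArg Quiver.Hom.op pullback.condition)).trans (Functor.map_comp_apply _ _ _ _))
    refine ⟨z, ext_of_cover (X := G.obj ⋙ forget _)
      ((isSheaf_iff_isSheaf_of_type _ _).1 ((Presheaf.isSheaf_iff_isSheaf_forget _ _ (forget _)).1 G.property))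
      hcov fun k => ?_⟩
    show G.obj.map _ (η.app _ z) = G.obj.map _ q
    rw [← NatTrans.naturality_apply]
    exact (congrArg _ (hz k)).trans (hs k)
  haveI : ∀ V, IsIso (η.app V) := fun V => (ConcreteCategory.isIso_iff_bijective _).2 (hbij V.unop)
  haveI : IsIso ((sheafToPresheaf X.smallEtaleTopology AddCommGrpCat.{u + 1}).map ((ProEtS.epsAdj X).unit.app F)) :=
    NatIso.isIso_of_isIso_app η
  exact isIso_of_reflects_iso _ (sheafToPresheaf X.smallEtaleTopology AddCommGrpCat.{u + 1})

end Groth.Agent.H1EpsS
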