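import Groth.Agent.H1EpsS.Compare

/-!
# Commutation with limits of quasi-compact quasi-separated objects
-/

set_option autoImplicit false
set_option backward.isDefEq.respectTransparency false
set_option linter.style.haveILetI false

universe u

open CategoryTheory CategoryTheory.Limits AlgebraicGeometry Opposite

attribute [local instance] IsCofiltered.isConnected

namespace Groth.Agent.H1EpsS

open H26ProEt (toSch)

variable {X : Scheme.{u}}

/-- A system has affine transition maps and quasi-compact quasi-separated members. -/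
structure IsQcqsSys {I : Type u} [SmallCategory I] (D : I ⥤ X.ProEt) : Prop where
  aff : ∀ ⦃i j : I⦄ (f : i ⟶ j), IsAffineHom (D.map f).left
  qc : ∀ i, CompactSpace ↥(D.obj i).left
  qs : ∀ i, QuasiSeparatedSpace ↥(D.obj i).left

theorem exists_affine_open_cover (B : X.ProEt) [CompactSpace ↥B.left] :
    ∃ (κ : Type u) (_ : Finite κ) (V : κ → X.ProEt) (g : ∀ k, V k ⟶ B),
      (∀ k, IsAffine (V k).left) ∧ (∀ k, IsOpenImmersion (g k).left) ∧ Sieve.ofArrows V g ∈ etTop X B := by
  classical
  let 𝒰 := B.left.affineCover.finiteSubcover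
  haveI : ∀ k, IsOpenImmersion (𝒰.f k) := fun k => inferInstance
  haveI : ∀ k, WeaklyEtale (𝒰.f k ≫ B.hom) := fun k => inferInstance
  let κ := ULift.{u} (Fin (Nat.card 𝒰.I₀))
  haveI : Finite 𝒰.I₀ := inferInstance
  let e : 𝒰.I₀ ≃ Fin (Nat.card 𝒰.I₀) := Finite.equivFin _
  refine ⟨κ, inferInstance, fun k => Scheme.ProEt.mk (𝒰.f (e.symm k.down) ≫ B.hom),
    fun k => MorphismProperty.Over.homMk (𝒰.f (e.symm k.down)) rfl trivial,
    fun k => inferInstanceAs (IsAffine (B.left.affineCover.finiteSubcover.X _)),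
    fun k => inferInstanceAs (IsOpenImmersion (𝒰.f _)), ofArrows_mem _ (fun k => ?_) fun b => ?_⟩
  · show Etale (𝒰.f (e.symm k.down))
    infer_instance
  · obtain ⟨k, y, hy⟩ := 𝒰.exists_eq b
    refine ⟨ULift.up (e k), ?_⟩
    have key : ∀ k' (_ : k' = k), ∃ y' : 𝒰.X k', 𝒰.f k' y' = b := fun k' hk => hk ▸ ⟨y, hy⟩
    exact key _ (e.symm_apply_apply k)

section Piece

variable {I : Type u} [SmallCategory I] {D : I ⥤ X.ProEt} (hD : IsQcqsSys D) {i : I} {W : X.ProEt}
  (w : W ⟶ D.obj i)

include hD

theorem isAffineHom_pFst (j : Over i) : IsAffineHom (pFst D w j).left :=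
  haveI := hD.aff j.hom
  MorphismProperty.of_isPullback (P := @IsAffineHom) ((isPullback_piece D w j).map (toSch X)).flip ‹_›

theorem isQcqsSys_pieceDiag [CompactSpace ↥W.left] [QuasiSeparatedSpace ↥W.left] :
    IsQcqsSys (pieceDiag D w) where
  aff j k φ := by
    haveI := isAffineHom_pFst hD w k
    haveI : IsAffineHom (((pieceDiag D w).map φ).left ≫ (pFst D w k).left) := by
      show IsAffineHom ((pieceDiag D w).map φ ≫ pFst D w k).left
      rw [map_pFst]
      exact isAffineHom_pFst hD w j
    exact MorphismProperty.of_postcomp (W := @IsAffineHom) (W' := @IsSeparated)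
      ((pieceDiag D w).map φ).left (pFst D w k).left inferInstance inferInstance
  qc j :=
    haveI := isAffineHom_pFst hD w j
    QuasiCompact.compactSpace_of_compactSpace (pFst D w j).left
  qs j :=
    haveI := isAffineHom_pFst hD w j
    quasiSeparatedSpace_of_quasiSeparated (pFst D w j).left

theorem isAffine_pieceDiag' [IsAffine W.left] (j : Over i) : IsAffine ((pieceDiag D w).obj j).left :=
  haveI := isAffineHom_pFst hD w j
  isAffine_of_isAffineHom (pFst D w j).left

theorem isAffine_piecePt' [IsCofiltered I] {c : Cone D} (hc : IsSchLimit c) [IsAffine W.left] :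
    IsAffine (piecePt w c).left :=
  haveI : ∀ {a b : I} (f : a ⟶ b), IsAffineHom ((D ⋙ toSch X).map f) := fun f => hD.aff f
  haveI h : IsAffineHom (c.π.app i).left := isAffineHom_π_app (D ⋙ toSch X) _ hc i
  haveI : IsAffineHom (ptFst w c).left :=
    MorphismProperty.of_isPullback (P := @IsAffineHom) ((isPullback_piecePt w c).map (toSch X)).flip h
  isAffine_of_isAffineHom (ptFst w c).left

end Piece

variable {G : X.ProEtᵒᵖ ⥤ Type (u + 1)} (hG : Presieve.IsSheaf (etTop X) G) (hLP : IsLP G)
  {I : Type u} [SmallCategory I] [IsCofiltered I] {D : I ⥤ X.ProEt} {c : Cone D} (hc : IsSchLimit c)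
  (hD : IsQcqsSys D)

include hG hLP hc hD

theorem evEq_of_qcqs (i : I) (y y' : G.obj (op (D.obj i)))
    (h : G.map (c.π.app i).op y = G.map (c.π.app i).op y') : EvEq D G y y' := by
  haveI := hD.qc i
  obtain ⟨κ, _, V, g, hV, -, hg⟩ := exists_affine_open_cover (D.obj i)
  refine evEq_of_cover hG hg fun k => ?_
  haveI := hV k
  refine (hLP (pieceDiag D (g k)) (pieceCone (g k) c) (nonempty_isLimit_pieceCone (g k) hc).some
    (isAffine_pieceDiag' hD (g k)) (isAffine_piecePt' hD (g k) hc)).2 (Over.mk (𝟙 i)) _ _ ?_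
  simp only [← Functor.map_comp_apply, ← op_comp]
  rw [ptπ_pTop, op_comp, Functor.map_comp_apply, Functor.map_comp_apply]
  exact congrArg _ h

theorem lifts_of_qcqs (x : G.obj (op c.pt)) : Lifts G c x := by
  obtain ⟨i⟩ := (IsCofiltered.nonempty : Nonempty I)
  haveI := hD.qc i
  haveI := hD.qs i
  obtain ⟨κ, _, V, g, hV, hgo, hg⟩ := exists_affine_open_cover (D.obj i)
  haveI := hgo
  haveI := hV
  refine lifts_of_cover c hG hg (fun k l m y y' hy => ?_) fun k => ?_
  · haveI : IsOpenImmersion (pullback.fst (g k) (g l)).left :=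
      MorphismProperty.of_isPullback (P := @IsOpenImmersion) (isPullback_left (g k) (g l)).flip (hgo l)
    haveI : QuasiCompact (pullback.fst (g k) (g l)).left :=
      MorphismProperty.of_isPullback (P := @QuasiCompact) (isPullback_left (g k) (g l)).flip inferInstance
    haveI : CompactSpace ↥(pullback (g k) (g l)).left :=
      QuasiCompact.compactSpace_of_compactSpace (pullback.fst (g k) (g l)).left
    haveI : QuasiSeparatedSpace ↥(pullback (g k) (g l)).left :=
      quasiSeparatedSpace_of_quasiSeparated (pullback.fst (g k) (g l)).left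
    exact evEq_of_qcqs hG hLP (nonempty_isLimit_pieceCone _ hc).some (isQcqsSys_pieceDiag hD _) m y y' hy
  · exact (hLP (pieceDiag D (g k)) (pieceCone (g k) c) (nonempty_isLimit_pieceCone (g k) hc).some
      (isAffine_pieceDiag' hD (g k)) (isAffine_piecePt' hD (g k) hc)).1 _

end Groth.Agent.H1EpsS
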