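import Groth.Agent.H1EpsS.Topology
import Groth.Agent.H1WE.Cover
import Groth.Agent.H1CAlg.IndEtale
import Groth.Agent.H26ProEt.WC
import Mathlib.CategoryTheory.Limits.Preserves.Over

/-!
# Refining affine coverings by ind-etale coverings
-/

set_option autoImplicit false
set_option backward.isDefEq.respectTransparency false
set_option linter.style.haveILetI false

universe u

open CategoryTheory CategoryTheory.Limits AlgebraicGeometry Opposite

namespace Groth.Agent.H1EpsS

open H26ProEt (toSch)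

variable {X : Scheme.{u}}

theorem weaklyEtale_left {A B : X.ProEt} (f : A ⟶ B) : WeaklyEtale f.left := by
  haveI : WeaklyEtale (f.left ≫ B.hom) := by rw [MorphismProperty.Over.w]; infer_instance
  exact WeaklyEtale.of_comp _ B.hom

/-- Every morphism of affine objects is refined, by a surjection on the source, by a limit of affine
etale morphisms. -/
theorem exists_indEtale_refinement {B V : X.ProEt} [IsAffine B.left] [IsAffine V.left] (v : V ⟶ B) :
    ∃ (I : Type u) (_ : SmallCategory I) (_ : IsCofiltered I) (D : I ⥤ X.ProEt) (c : Cone D)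
      (d : ∀ i, D.obj i ⟶ B) (e : c.pt ⟶ V), Nonempty (IsSchLimit c) ∧ IsAffine c.pt.left ∧
      (∀ i, IsAffine (D.obj i).left) ∧ (∀ i, Etale (d i).left) ∧ Surjective e.left ∧
      (∀ ⦃i j : I⦄ (f : i ⟶ j), D.map f ≫ d j = d i) ∧ ∀ i, c.π.app i ≫ d i = e ≫ v := by
  haveI := weaklyEtale_left v
  let φ := Spec.preimage (V.left.isoSpec.inv ≫ v.left ≫ B.left.isoSpec.hom)
  have hφ : Spec.map φ = V.left.isoSpec.inv ≫ v.left ≫ B.left.isoSpec.hom := Spec.map_preimage _
  letI : Algebra Γ(B.left, ⊤) Γ(V.left, ⊤) := φ.hom.toAlgebra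
  haveI hw : Algebra.WeaklyEtale Γ(B.left, ⊤) Γ(V.left, ⊤) := (H26ProEt.weaklyEtale_SpecMap_iff _ _).1 (by
    show WeaklyEtale (Spec.map φ)
    rw [hφ]; infer_instance)
  obtain ⟨S', _, _, _, _, hff, -, hind⟩ :=
    H1WE.exists_indEtale_cover (A := Γ(B.left, ⊤)) (B := Γ(V.left, ⊤))
  haveI hwS' := H1CAlg.IndEtale.weaklyEtale_of_isIndEtale hind
  obtain ⟨J, _, _, E, k, hk, het, ⟨eE⟩⟩ := hind
  let R : CommRingCat.{u} := Γ(B.left, ⊤)
  let Eb : J ⥤ CommRingCat.{u} := E ⋙ Under.forget (CommRingCat.of Γ(B.left, ⊤))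
  let kb : Cocone Eb := (Under.forget (CommRingCat.of Γ(B.left, ⊤))).mapCocone k
  let hkb : IsColimit kb := isColimitOfPreserves (Under.forget _) hk
  let S : Jᵒᵖ ⥤ Scheme.{u} := Eb.op ⋙ Scheme.Spec
  let sc : Cone S := Scheme.Spec.mapCone kb.op
  let hsc : IsLimit sc := isLimitOfPreserves Scheme.Spec hkb.op
  let dd : ∀ j : Jᵒᵖ, S.obj j ⟶ B.left := fun j => Spec.map (E.obj j.unop).hom ≫ B.left.isoSpec.inv
  haveI hde : ∀ j : Jᵒᵖ, Etale (Spec.map (E.obj j.unop).hom) := fun j => by
    letI := (E.obj j.unop).hom.hom.toAlgebra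
    haveI := het j.unop
    exact HasRingHomProperty.Spec_iff.2 ((RingHom.etale_algebraMap).2 (het j.unop))
  haveI : ∀ j : Jᵒᵖ, Etale (dd j) := fun j => inferInstance
  haveI : ∀ j : Jᵒᵖ, WeaklyEtale (dd j ≫ B.hom) := fun j => inferInstance
  let D : Jᵒᵖ ⥤ X.ProEt :=
    { obj := fun j => Scheme.ProEt.mk (dd j ≫ B.hom)
      map := fun {i j} f => MorphismProperty.Over.homMk (S.map f) (by
        show S.map f ≫ dd j ≫ B.hom = dd i ≫ B.hom
        simp only [← Category.assoc]
        congr 1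
        rw [← cancel_mono B.left.isoSpec.hom]
        simp only [dd, Category.assoc, Iso.inv_hom_id, Category.comp_id]
        show Spec.map (E.map f.unop).right ≫ Spec.map (E.obj j.unop).hom = Spec.map (E.obj i.unop).hom
        rw [← Spec.map_comp, Under.w]) trivial
      map_id := fun j => MorphismProperty.Over.Hom.ext (S.map_id j)
      map_comp := fun f g => MorphismProperty.Over.Hom.ext (S.map_comp f g) }
  let eP : k.pt.right ≅ CommRingCat.of S' := (Under.forget _).mapIso eE
  let ψ : Γ(V.left, ⊤) ⟶ k.pt.right := CommRingCat.ofHom (algebraMap Γ(V.left, ⊤) S') ≫ eP.inv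
  let ee : sc.pt ⟶ V.left := Spec.map ψ ≫ V.left.isoSpec.inv
  haveI : WeaklyEtale (Spec.map ψ) := by
    haveI h := (H26ProEt.weaklyEtale_SpecMap_iff Γ(B.left, ⊤) S').2 hwS'
    haveI : WeaklyEtale (Spec.map φ) := by rw [hφ]; infer_instance
    haveI : WeaklyEtale (Spec.map ψ ≫ Spec.map φ) := by
      have e1 : φ ≫ ψ = CommRingCat.ofHom (algebraMap Γ(B.left, ⊤) S') ≫ eP.inv := by
        simp only [ψ, ← Category.assoc]
        congr 1
        exact CommRingCat.hom_ext (IsScalarTower.algebraMap_eq Γ(B.left, ⊤) Γ(V.left, ⊤) S').symm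
      rw [← Spec.map_comp, e1, Spec.map_comp]
      infer_instance
    exact WeaklyEtale.of_comp (Spec.map ψ) (Spec.map φ)
  haveI : Surjective ee := by
    haveI : Surjective (Spec.map (CommRingCat.ofHom (algebraMap Γ(V.left, ⊤) S'))) :=
      ((flat_and_surjective_SpecMap_iff _).2 ((RingHom.faithfullyFlat_algebraMap_iff).2 hff)).2
    show Surjective (Spec.map ψ ≫ V.left.isoSpec.inv)
    rw [Spec.map_comp]
    infer_instance
  haveI : WeaklyEtale (ee ≫ V.hom) := inferInstance
  let P : X.ProEt := Scheme.ProEt.mk (ee ≫ V.hom)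
  let e : P ⟶ V := MorphismProperty.Over.homMk ee rfl trivial
  have hcomp : ∀ j, sc.π.app j ≫ dd j = ee ≫ v.left := fun j => by
    show Spec.map (k.ι.app j.unop).right ≫ Spec.map (E.obj j.unop).hom ≫ B.left.isoSpec.inv = _
    have h1 : (E.obj j.unop).hom ≫ (k.ι.app j.unop).right = φ ≫ ψ := by
      rw [Under.w]
      have h2 : k.pt.hom ≫ eP.hom = CommRingCat.ofHom (algebraMap Γ(B.left, ⊤) S') := Under.w eE.hom
      rw [← cancel_mono eP.hom]
      erw [h2]
      simp only [ψ, Category.assoc, Iso.inv_hom_id, Category.comp_id]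
      exact CommRingCat.hom_ext (IsScalarTower.algebraMap_eq Γ(B.left, ⊤) Γ(V.left, ⊤) S')
    rw [← Category.assoc, ← Spec.map_comp, h1, Spec.map_comp, hφ]
    simp [ee]
  let c : Cone D :=
    { pt := P
      π :=
        { app := fun j => MorphismProperty.Over.homMk (sc.π.app j) (by
            show sc.π.app j ≫ dd j ≫ B.hom = ee ≫ V.hom
            rw [← Category.assoc, hcomp, Category.assoc, MorphismProperty.Over.w]) trivial
          naturality := fun i j f => MorphismProperty.Over.Hom.ext (sc.π.naturality f) } }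
  refine ⟨Jᵒᵖ, inferInstance, inferInstance, D, c, fun j => MorphismProperty.Over.homMk (dd j) rfl trivial,
    e, ⟨hsc⟩, inferInstanceAs (IsAffine (Spec _)), fun j => inferInstanceAs (IsAffine (Spec _)),
    fun j => inferInstanceAs (Etale (dd j)), inferInstanceAs (Surjective ee),
    fun i j f => MorphismProperty.Over.Hom.ext ?_, fun j => MorphismProperty.Over.Hom.ext (hcomp j)⟩
  show S.map f ≫ dd j = dd i
  show Spec.map (E.map f.unop).right ≫ Spec.map (E.obj j.unop).hom ≫ B.left.isoSpec.inv = _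
  rw [← Category.assoc, ← Spec.map_comp, Under.w]

end Groth.Agent.H1EpsS
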