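import Groth.Agent.H1EpsS.SheafifyLP
import Groth.Agent.H1EpsS.IndEtale

/-!
# Limit preserving etale sheaves satisfy pro-etale descent on affine objects
-/

set_option autoImplicit false
set_option backward.isDefEq.respectTransparency false
set_option linter.style.haveILetI false

universe u

open CategoryTheory CategoryTheory.Limits AlgebraicGeometry Opposite

attribute [local instance] IsCofiltered.isConnected

namespace Groth.Agent.H1EpsS

open H26ProEt (toSch)

variable {X : Scheme.{u}}

theorem exists_mem_of_mem_topology {B : X.ProEt} {T : Sieve B} (hT : T ∈ Scheme.ProEt.topology X B)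
    (b : B.left) : ∃ (Z : X.ProEt) (f : Z ⟶ B) (y : Z.left), T f ∧ f.left y = b := by
  obtain ⟨R, hR, hle⟩ := H26ProEt.mem_topology_iff.1 hT
  obtain ⟨ι, W, f, rfl⟩ := R.exists_eq_ofArrows
  simp only [Scheme.ProEt.precoverage, Precoverage.mem_comap_iff, Presieve.map_ofArrows] at hR
  obtain ⟨k, y, hy⟩ := ((Scheme.ofArrows_mem_precoverage_iff _).1 hR.2).1 b
  exact ⟨W k, f k, y, hle _ _ ⟨k⟩, hy⟩

/-- A finite coproduct in the pro-etale site. -/
theorem exists_coprod_etTop {κ : Type u} [Finite κ] (V : κ → X.ProEt) (hV : ∀ k, IsAffine (V k).left) :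
    ∃ (P : X.ProEt) (j : ∀ k, V k ⟶ P), IsAffine P.left ∧ Sieve.ofArrows V j ∈ etTop X P ∧
      (∀ (F : X.ProEtᵒᵖ ⥤ Type (u + 1)), Presieve.IsSheaf (etTop X) F → ∀ r : ∀ k, F.obj (op (V k)),
        ∃ t, ∀ k, F.map (j k).op t = r k) ∧
      ∀ {Y : X.ProEt} (g : ∀ k, V k ⟶ Y), ∃ m : P ⟶ Y, ∀ k, j k ≫ m = g k := by
  classical
  let S : κ → Scheme.{u} := fun k => (V k).left
  let f : (∐ S) ⟶ X := Sigma.desc fun k => (V k).hom
  haveI : WeaklyEtale f := (IsZariskiLocalAtSource.iff_of_openCover (P := @WeaklyEtale)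
    (sigmaOpenCover S)).2 fun k => by
      show WeaklyEtale (Sigma.ι S k ≫ f)
      rw [Sigma.ι_desc]
      exact (V k).prop
  let j : ∀ k, V k ⟶ Scheme.ProEt.mk f := fun k =>
    MorphismProperty.Over.homMk (Sigma.ι S k) (Sigma.ι_desc (f := S) (fun k => (V k).hom) k) trivial
  haveI : ∀ k, IsAffine (S k) := hV
  have hcov : Sieve.ofArrows V j ∈ etTop X (Scheme.ProEt.mk f) :=
    ofArrows_mem _ (fun k => inferInstanceAs (Etale (Sigma.ι S k))) fun b => by
      obtain ⟨k, y, hy⟩ := (sigmaOpenCover S).exists_eq b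
      exact ⟨k, y, hy⟩
  refine ⟨Scheme.ProEt.mk f, j, inferInstanceAs (IsAffine (∐ S)), hcov, fun F hF r => ?_, fun {Y} g => ?_⟩
  · obtain ⟨t, ht, -⟩ := (Presieve.isSheafFor_arrows_iff _ _).1
      ((Presieve.isSheafFor_iff_generate _).2 (hF _ hcov)) r fun k l Z a b e => by
      by_cases hkl : k = l
      · subst hkl
        rw [show a = b from MorphismProperty.Over.Hom.ext
          ((cancel_mono (Sigma.ι S k)).1 (congrArg (fun q => q.left) e))]
      · haveI hZ : IsEmpty Z.left := ⟨fun z => by
          have e1 : Sigma.ι S k (a.left z) = Sigma.ι S l (b.left z) :=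
            congrArg (fun q : Z ⟶ Scheme.ProEt.mk f => q.left z) e
          exact Set.disjoint_left.1 (TopologicalSpace.Opens.coe_disjoint.2
            (disjoint_opensRange_sigmaι S k l hkl)) ⟨a.left z, rfl⟩ ⟨b.left z, e1.symm⟩⟩
        exact (hF _ (ofArrows_mem (B := Z) (V := fun k : PEmpty.{1} => k.elim) (fun k => k.elim)
          (fun k => k.elim) fun b => (hZ.false b).elim)).isSeparatedFor.ext fun W q hq => by
            obtain ⟨_, _, _, ⟨k⟩, -⟩ := hq
            exact k.elim
    exact ⟨t, ht⟩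
  · refine ⟨MorphismProperty.Over.homMk (Sigma.desc (f := S) fun k => (g k).left)
      (Sigma.hom_ext _ _ fun k => ?_) trivial, fun k => MorphismProperty.Over.Hom.ext (Sigma.ι_desc _ _)⟩
    exact ((Category.assoc _ _ _).symm.trans ((congrArg (fun q : (V k).left ⟶ Y.left => q ≫ Y.hom)
      (Sigma.ι_desc (f := S) (fun k => (g k).left) k)).trans (MorphismProperty.Over.w (g k)))).trans
      (Sigma.ι_desc (f := S) (fun k => (V k).hom) k).symm

theorem map_map_of_eq (Y : X.ProEtᵒᵖ ⥤ Type (u + 1)) {Z W W' U : X.ProEt} {a : Z ⟶ W} {b : W ⟶ U}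
    {a' : Z ⟶ W'} {b' : W' ⟶ U} (h : a ≫ b = a' ≫ b') (y : Y.obj (op U)) :
    Y.map a.op (Y.map b.op y) = Y.map a'.op (Y.map b'.op y) := by
  rw [← Functor.map_comp_apply, ← Functor.map_comp_apply, ← op_comp, ← op_comp, h]

variable {Q : X.ProEtᵒᵖ ⥤ Type (u + 1)} (hQ : Presieve.IsSheaf (etTop X) Q) (hLP : IsLP Q)

section Single

variable {B V : X.ProEt} [IsAffine B.left] [IsAffine V.left] (v : V ⟶ B) [Surjective v.left]

omit [IsAffine B.left] [IsAffine V.left] [Surjective v.left] in
theorem surjective_of_comp {P W : X.ProEt} (e : P ⟶ V) [Surjective e.left] [Surjective v.left]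
    (π : P ⟶ W) (d : W ⟶ B) (h : π ≫ d = e ≫ v) : Surjective d.left := by
  haveI : Surjective (π.left ≫ d.left) := by
    show Surjective (π ≫ d).left
    rw [h]
    exact inferInstanceAs (Surjective (e.left ≫ v.left))
  exact Surjective.of_comp π.left d.left

include hQ hLP

theorem ext_of_surjective {y y' : Q.obj (op B)} (h : Q.map v.op y = Q.map v.op y') : y = y' := by
  obtain ⟨I, _, _, D, c, d, e, ⟨hc⟩, hT, hD, hde, hes, hd, he⟩ := exists_indEtale_refinement v
  obtain ⟨i⟩ := (IsCofiltered.nonempty : Nonempty I)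
  obtain ⟨j, f, hf⟩ := (hLP D c hc hD hT).2 i (Q.map (d i).op y) (Q.map (d i).op y') (by
    simp only [← Functor.map_comp_apply, ← op_comp, he]
    simp only [op_comp, Functor.map_comp_apply, h])
  simp only [← Functor.map_comp_apply, ← op_comp, hd] at hf
  haveI := surjective_of_comp v e (c.π.app j) (d j) (he j)
  exact ext_of_cover hQ (κ := PUnit.{1}) (g := fun _ => d j)
    (ofArrows_mem _ (fun _ => hde j) fun b => ⟨⟨⟩, (d j).left.surjective b⟩) fun _ => hf

theorem exists_glue_single (x : Q.obj (op V))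
    (h : Q.map (pullback.fst v v).op x = Q.map (pullback.snd v v).op x) :
    ∃ z : Q.obj (op B), Q.map v.op z = x := by
  obtain ⟨I, _, _, D, c, d, e, ⟨hc⟩, hT, hD, hde, hes, hd, he⟩ := exists_indEtale_refinement v
  obtain ⟨i, x₀, hx₀⟩ := (hLP D c hc hD hT).1 (Q.map e.op x)
  let D2 : I ⥤ X.ProEt :=
    { obj := fun k => pullback (d k) (d k)
      map := fun {k l} f => pullback.map _ _ _ _ (D.map f) (D.map f) (𝟙 _)
        (by rw [hd, Category.comp_id]) (by rw [hd, Category.comp_id])
      map_id := fun k => by apply pullback.hom_ext <;> simp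
      map_comp := fun f g => by apply pullback.hom_ext <;> simp }
  let ev := e ≫ v
  let c2 : Cone D2 :=
    { pt := pullback ev ev
      π :=
        { app := fun k => pullback.map _ _ _ _ (c.π.app k) (c.π.app k) (𝟙 _)
            (by rw [he, Category.comp_id]) (by rw [he, Category.comp_id])
          naturality := fun k l f => by
            apply pullback.hom_ext <;> simp [D2] } }
  have hπ₁ : ∀ k, c2.π.app k ≫ pullback.fst (d k) (d k) = pullback.fst ev ev ≫ c.π.app k :=
    fun k => pullback.lift_fst _ _ _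
  have hπ₂ : ∀ k, c2.π.app k ≫ pullback.snd (d k) (d k) = pullback.snd ev ev ≫ c.π.app k :=
    fun k => pullback.lift_snd _ _ _
  have hm₁ : ∀ {k l} (f : k ⟶ l), D2.map f ≫ pullback.fst (d l) (d l) = pullback.fst (d k) (d k) ≫ D.map f :=
    fun f => pullback.lift_fst _ _ _
  have hm₂ : ∀ {k l} (f : k ⟶ l), D2.map f ≫ pullback.snd (d l) (d l) = pullback.snd (d k) (d k) ≫ D.map f :=
    fun f => pullback.lift_snd _ _ _
  have hD2 : ∀ k, IsAffine (D2.obj k).left := fun k => haveI := hD k; isAffine_pullback_left _ _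
  have hT2 : IsAffine c2.pt.left := haveI := hT; isAffine_pullback_left _ _
  have hpb := (IsPullback.of_hasPullback ev ev).map (toSch X)
  have hc2 : IsSchLimit c2 :=
    let c₁ : ∀ s : Cone (D2 ⋙ toSch X), Cone (D ⋙ toSch X) := fun s =>
      { pt := s.pt
        π :=
          { app := fun k => s.π.app k ≫ (toSch X).map (pullback.fst (d k) (d k))
            naturality := fun k l f => by
              rw [← s.w f]
              simp only [Functor.const_obj_map, Category.id_comp, Category.assoc, Functor.comp_map,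
                ← Functor.map_comp, hm₁]
              exact Category.id_comp _ } }
    let c₂ : ∀ s : Cone (D2 ⋙ toSch X), Cone (D ⋙ toSch X) := fun s =>
      { pt := s.pt
        π :=
          { app := fun k => s.π.app k ≫ (toSch X).map (pullback.snd (d k) (d k))
            naturality := fun k l f => by
              rw [← s.w f]
              simp only [Functor.const_obj_map, Category.id_comp, Category.assoc, Functor.comp_map,
                ← Functor.map_comp, hm₂]
              exact Category.id_comp _ } }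
    have hw : ∀ s, hc.lift (c₁ s) ≫ (toSch X).map ev = hc.lift (c₂ s) ≫ (toSch X).map ev := fun s => by
      have e1 : ∀ s' : Cone (D ⋙ toSch X), hc.lift s' ≫ (toSch X).map ev =
          s'.π.app i ≫ (toSch X).map (d i) := fun s' => by
        rw [← hc.fac s' i, Category.assoc]
        show _ = _ ≫ (toSch X).map (c.π.app i) ≫ _
        rw [← Functor.map_comp, he]
      rw [e1, e1]
      show (s.π.app i ≫ (toSch X).map _) ≫ _ = (s.π.app i ≫ (toSch X).map _) ≫ _
      simp only [Category.assoc, ← Functor.map_comp, pullback.condition]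
    { lift := fun s => hpb.lift _ _ (hw s)
      fac := fun s k => by
        refine ((IsPullback.of_hasPullback (d k) (d k)).map (toSch X)).hom_ext ?_ ?_
        · show (hpb.lift _ _ _ ≫ (toSch X).map (c2.π.app k)) ≫ (toSch X).map _ = _
          rw [Category.assoc, ← Functor.map_comp, hπ₁]
          exact ((congrArg (fun q => hpb.lift _ _ (hw s) ≫ q) ((toSch X).map_comp _ _)).trans
            (hpb.lift_fst_assoc _ _ _ _)).trans (hc.fac (c₁ s) k)
        · show (hpb.lift _ _ _ ≫ (toSch X).map (c2.π.app k)) ≫ (toSch X).map _ = _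
          rw [Category.assoc, ← Functor.map_comp, hπ₂]
          exact ((congrArg (fun q => hpb.lift _ _ (hw s) ≫ q) ((toSch X).map_comp _ _)).trans
            (hpb.lift_snd_assoc _ _ _ _)).trans (hc.fac (c₂ s) k)
      uniq := fun s m hm => by
        refine hpb.hom_ext ?_ ?_
        · rw [IsPullback.lift_fst]
          refine hc.uniq (c₁ s) _ fun k => ?_
          show (m ≫ _) ≫ (toSch X).map (c.π.app k) = _
          rw [Category.assoc, ← Functor.map_comp, ← hπ₁, Functor.map_comp, ← Category.assoc]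
          exact congrArg (· ≫ _) (hm k)
        · rw [IsPullback.lift_snd]
          refine hc.uniq (c₂ s) _ fun k => ?_
          show (m ≫ _) ≫ (toSch X).map (c.π.app k) = _
          rw [Category.assoc, ← Functor.map_comp, ← hπ₂, Functor.map_comp, ← Category.assoc]
          exact congrArg (· ≫ _) (hm k) }
  let t : pullback ev ev ⟶ pullback v v := pullback.map _ _ _ _ e e (𝟙 _) (by simp [ev]) (by simp [ev])
  obtain ⟨j, f, hf⟩ := (hLP D2 c2 hc2 hD2 hT2).2 i
    (Q.map (pullback.fst (d i) (d i)).op x₀) (Q.map (pullback.snd (d i) (d i)).op x₀)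
    (((map_map_of_eq Q (hπ₁ i) x₀).trans ((congrArg (Q.map (pullback.fst ev ev).op) hx₀).trans
      (map_map_of_eq Q (pullback.lift_fst _ _ _ : t ≫ pullback.fst v v = pullback.fst ev ev ≫ e).symm x))).trans
      ((congrArg (Q.map t.op) h).trans
      ((map_map_of_eq Q (pullback.lift_snd _ _ _ : t ≫ pullback.snd v v = pullback.snd ev ev ≫ e) x).trans
      ((congrArg (Q.map (pullback.snd ev ev).op) hx₀.symm).trans (map_map_of_eq Q (hπ₂ i) x₀).symm))))
  replace hf : Q.map (pullback.fst (d j) (d j)).op (Q.map (D.map f).op x₀) =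
      Q.map (pullback.snd (d j) (d j)).op (Q.map (D.map f).op x₀) :=
    ((map_map_of_eq Q (hm₁ f) x₀).symm.trans hf).trans (map_map_of_eq Q (hm₂ f) x₀)
  haveI := surjective_of_comp v e (c.π.app j) (d j) (he j)
  obtain ⟨z, hz⟩ := exists_glue hQ (κ := PUnit.{1}) (g := fun _ => d j)
    (ofArrows_mem _ (fun _ => hde j) fun b => ⟨⟨⟩, (d j).left.surjective b⟩)
    (fun _ => Q.map (D.map f).op x₀) fun _ _ => hf
  refine ⟨z, ?_⟩
  have hze : Q.map (e ≫ v).op z = Q.map e.op x := by
    rw [← he j, op_comp, Functor.map_comp_apply, hz ⟨⟩, ← Functor.map_comp_apply, ← op_comp]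
    exact (congrArg (fun q => Q.map q.op x₀) (c.w f)).trans hx₀
  haveI := hT
  haveI : IsAffine (pullback (e ≫ v) v).left := isAffine_pullback_left _ _
  haveI : Surjective (e ≫ v).left := inferInstanceAs (Surjective (e.left ≫ v.left))
  haveI := surjective_pullback_snd (e ≫ v) v
  refine ext_of_surjective hQ hLP (pullback.snd (e ≫ v) v) ?_
  rw [← Functor.map_comp_apply, ← op_comp, ← pullback.condition, op_comp, Functor.map_comp_apply, hze,
    ← Functor.map_comp_apply, ← op_comp]
  let t' : pullback (e ≫ v) v ⟶ pullback v v := pullback.map _ _ _ _ e (𝟙 _) (𝟙 _) (by simp) (by simp)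
  rw [show pullback.fst (e ≫ v) v ≫ e = t' ≫ pullback.fst v v from (pullback.lift_fst _ _ _).symm,
    show pullback.snd (e ≫ v) v = t' ≫ pullback.snd v v from
      ((pullback.lift_snd _ _ _).trans (Category.comp_id _)).symm,
    op_comp, op_comp, Functor.map_comp_apply, Functor.map_comp_apply, h]

end Single

include hQ hLP in
/-- Sheaf condition for finite affine pro-etale coverings. -/
theorem existsUnique_glue_affine {B : X.ProEt} [IsAffine B.left] {κ : Type u} [Finite κ] {V : κ → X.ProEt}
    (g : ∀ k, V k ⟶ B) (hV : ∀ k, IsAffine (V k).left)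
    (hs : ∀ b : B.left, ∃ (k : κ) (y : (V k).left), (g k).left y = b) :
    (∀ {y y' : Q.obj (op B)}, (∀ k, Q.map (g k).op y = Q.map (g k).op y') → y = y') ∧
    ∀ x : ∀ k, Q.obj (op (V k)),
      (∀ k l, Q.map (pullback.fst (g k) (g l)).op (x k) = Q.map (pullback.snd (g k) (g l)).op (x l)) →
      ∃ z : Q.obj (op B), ∀ k, Q.map (g k).op z = x k := by
  obtain ⟨P, j, hP, hj, -, hdesc⟩ := exists_coprod_etTop V hV
  obtain ⟨m, hm⟩ := hdesc g
  haveI : Surjective m.left := ⟨fun b => by
    obtain ⟨k, y, hy⟩ := hs b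
    refine ⟨(j k).left y, ?_⟩
    rw [← hy, ← hm k]
    rfl⟩
  refine ⟨fun {y y'} h => ext_of_surjective hQ hLP m (ext_of_cover hQ hj fun k => ?_), fun x hx => ?_⟩
  · rw [← Functor.map_comp_apply, ← Functor.map_comp_apply, ← op_comp, hm]
    exact h k
  · have hgab : ∀ (k l : κ) {Z : X.ProEt} (a : Z ⟶ V k) (b : Z ⟶ V l), a ≫ g k = b ≫ g l →
        Q.map a.op (x k) = Q.map b.op (x l) := fun k l Z a b hab => by
      rw [← pullback.lift_fst a b hab, op_comp, Functor.map_comp_apply, hx k l, ← Functor.map_comp_apply,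
        ← op_comp, pullback.lift_snd]
    obtain ⟨p, hp⟩ := exists_glue hQ hj x fun k l => hgab k l _ _ (by
      rw [← hm k, ← hm l, pullback.condition_assoc])
    obtain ⟨z, hz⟩ := exists_glue_single hQ hLP m p (by
      refine (hQ _ ((etTop X).intersection_covering ((etTop X).pullback_stable (pullback.fst m m) hj)
        ((etTop X).pullback_stable (pullback.snd m m) hj))).isSeparatedFor.ext ?_
      rintro Z q ⟨⟨_, a, _, ⟨k⟩, ha⟩, ⟨_, b, _, ⟨l⟩, hb⟩⟩
      simp only [← Functor.map_comp_apply, ← op_comp, ← ha, ← hb]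
      simp only [op_comp, Functor.map_comp_apply, hp]
      refine hgab k l a b ?_
      rw [← hm k, ← hm l, reassoc_of% ha, reassoc_of% hb, pullback.condition])
    exact ⟨z, fun k => by rw [← hm k, op_comp, Functor.map_comp_apply, hz, hp]⟩

end Groth.Agent.H1EpsS
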