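import Groth.Agent.H1EpsS.Lan
import Groth.Agent.H1EpsS.SheafAffine

/-!
# Pro-etale sections of pulled back etale sheaves commute with affine limits
-/

set_option autoImplicit false
set_option backward.isDefEq.respectTransparency false
set_option linter.style.haveILetI false

universe u

open CategoryTheory CategoryTheory.Limits AlgebraicGeometry Opposite

namespace Groth.Agent.H1EpsS

open H26ProEt (toSch)

variable {X : Scheme.{u}}

section General

variable {Q G : X.ProEtᵒᵖ ⥤ Type (u + 1)} (ψ : Q ⟶ G) (hQ : Presieve.IsSheaf (etTop X) Q) (hLP : IsLP Q)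
  (hG : Presieve.IsSheaf (Scheme.ProEt.topology X) G)
  [Presheaf.IsLocallyInjective (Scheme.ProEt.topology X) ψ]
  [Presheaf.IsLocallySurjective (Scheme.ProEt.topology X) ψ]

theorem exists_finite_affine_surj {B : X.ProEt} [IsAffine B.left] {T : Sieve B}
    (hT : T ∈ Scheme.ProEt.topology X B) :
    ∃ (κ : Type u) (_ : Finite κ) (V : κ → X.ProEt) (g : ∀ k, V k ⟶ B),
      (∀ k, IsAffine (V k).left) ∧ (∀ k, T (g k)) ∧ Sieve.ofArrows V g ∈ Scheme.ProEt.topology X B ∧
      ∀ b : B.left, ∃ (k : κ) (y : (V k).left), (g k).left y = b := by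
  obtain ⟨n, V, g, hV, hg, hcov⟩ := H26ProEt.exists_finite_affine hT
  refine ⟨ULift.{u} (Fin n), inferInstance, fun k => V k.down, fun k => g k.down, fun k => hV _, fun k => hg _,
    (Scheme.ProEt.topology X).superset_covering ?_ hcov, fun b => ?_⟩
  · rw [Sieve.ofArrows, Sieve.generate_le_iff, Presieve.ofArrows_le_iff]
    exact fun k => ⟨_, 𝟙 _, _, ⟨ULift.up k⟩, Category.id_comp _⟩
  · obtain ⟨Z, f, y, ⟨_, a, _, ⟨k⟩, rfl⟩, hy⟩ := exists_mem_of_mem_topology hcov b
    exact ⟨⟨k⟩, a.left y, hy⟩

include ψ hQ hLP in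
theorem injective_on_affine {B : X.ProEt} (hB : IsAffine B.left) {y y' : Q.obj (op B)}
    (h : ψ.app _ y = ψ.app _ y') : y = y' := by
  obtain ⟨κ, _, V, g, hV, hg, -, hs⟩ :=
    exists_finite_affine_surj (Presheaf.equalizerSieve_mem (Scheme.ProEt.topology X) ψ (X := op B) y y' h)
  exact (existsUnique_glue_affine hQ hLP g hV hs).1 hg

include ψ hQ hLP hG in
theorem surjective_on_affine {B : X.ProEt} (hB : IsAffine B.left) (x : G.obj (op B)) :
    ∃ y, ψ.app _ y = x := by
  obtain ⟨κ, _, V, g, hV, hg, hcov, hs⟩ :=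
    exists_finite_affine_surj (Presheaf.imageSieve_mem (Scheme.ProEt.topology X) ψ (U := op B) x)
  choose t ht using hg
  obtain ⟨z, hz⟩ := (existsUnique_glue_affine hQ hLP g hV hs).2 t fun k l => by
    haveI := hV
    refine injective_on_affine ψ hQ hLP (isAffine_pullback_left _ _) ?_
    rw [NatTrans.naturality_apply, NatTrans.naturality_apply, ht, ht]
    exact map_map_of_eq G pullback.condition x
  refine ⟨z, (hG _ hcov).isSeparatedFor.ext ?_⟩
  rintro Z q ⟨_, a, _, ⟨k⟩, rfl⟩
  rw [op_comp, Functor.map_comp_apply, Functor.map_comp_apply, ← NatTrans.naturality_apply, hz, ht]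

include ψ hQ hLP hG in
theorem isLP_of_comparison : IsLP G := by
  intro I _ _ D c hc hD hT
  refine ⟨fun x => ?_, fun i y y' h => ?_⟩
  · obtain ⟨x₀, rfl⟩ := surjective_on_affine ψ hQ hLP hG hT x
    obtain ⟨j, z, hz⟩ := (hLP D c hc hD hT).1 x₀
    exact ⟨j, ψ.app _ z, (NatTrans.naturality_apply ψ _ z).symm.trans (congrArg _ hz)⟩
  · obtain ⟨y₀, rfl⟩ := surjective_on_affine ψ hQ hLP hG (hD i) y
    obtain ⟨y₀', rfl⟩ := surjective_on_affine ψ hQ hLP hG (hD i) y'
    rw [← NatTrans.naturality_apply, ← NatTrans.naturality_apply] at h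
    obtain ⟨j, f, hf⟩ := (hLP D c hc hD hT).2 i y₀ y₀' (injective_on_affine ψ hQ hLP hT h)
    exact ⟨j, f, by rw [← NatTrans.naturality_apply, ← NatTrans.naturality_apply, hf]⟩

end General

attribute [local instance] flat_eps

variable [ProEtS.EpsCont X] (F : EtCoh.Ab X)

/-- The map from the presheaf pullback to the pro-etale pullback. -/
noncomputable def preToEps : preEps F.obj ⟶ ((ProEtS.epsPull X).obj F).obj :=
  toSheafify (Scheme.ProEt.topology X) (preEps F.obj) ≫
    ((Functor.sheafPullbackConstruction.sheafPullbackIso (ProEtS.eps X) AddCommGrpCat.{u + 1}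
      X.smallEtaleTopology (Scheme.ProEt.topology X)).inv.app F).hom

instance : Presheaf.IsLocallyInjective (Scheme.ProEt.topology X) (preToEps F) := by
  unfold preToEps; infer_instance

instance : Presheaf.IsLocallySurjective (Scheme.ProEt.topology X) (preToEps F) := by
  unfold preToEps; infer_instance

theorem isSheaf_eps : Presieve.IsSheaf (Scheme.ProEt.topology X)
    (((ProEtS.epsPull X).obj F).obj ⋙ forget _) :=
  (isSheaf_iff_isSheaf_of_type _ _).1
    ((Presheaf.isSheaf_iff_isSheaf_forget _ _ (forget _)).1 ((ProEtS.epsPull X).obj F).property)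

/-- The etale sheafification of the presheaf pullback. -/
noncomputable abbrev etEps : Sheaf (etTop X) AddCommGrpCat.{u + 1} :=
  (presheafToSheaf (etTop X) AddCommGrpCat.{u + 1}).obj (preEps F.obj)

/-- The comparison from the etale sheafification. -/
noncomputable def etToEps : (etEps F).obj ⟶ ((ProEtS.epsPull X).obj F).obj :=
  sheafifyLift (etTop X) (preToEps F) (fun E => Presieve.isSheaf_of_le _ etTop_le (((ProEtS.epsPull X).obj F).property E))

theorem toSheafify_etToEps : toSheafify (etTop X) (preEps F.obj) ≫ etToEps F = preToEps F :=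
  toSheafify_sheafifyLift _ _ _

theorem isLocallyInjective_toSheafify :
    Presheaf.IsLocallyInjective (Scheme.ProEt.topology X) (toSheafify (etTop X) (preEps F.obj)) :=
  ⟨fun x y h => etTop_le _ (Presheaf.equalizerSieve_mem (etTop X) _ x y h)⟩

instance : Presheaf.IsLocallySurjective (Scheme.ProEt.topology X) (etToEps F) :=
  Presheaf.isLocallySurjective_of_isLocallySurjective_fac _ (toSheafify_etToEps F)

instance : Presheaf.IsLocallyInjective (Scheme.ProEt.topology X) (etToEps F) :=
  haveI := isLocallyInjective_toSheafify F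
  haveI : Presheaf.IsLocallySurjective (Scheme.ProEt.topology X) (toSheafify (etTop X) (preEps F.obj)) :=
    Presheaf.isLocallySurjective_of_le (J := etTop X) etTop_le _ inferInstance
  Presheaf.isLocallyInjective_of_isLocallyInjective_of_isLocallySurjective_fac (Scheme.ProEt.topology X) (preToEps F) (toSheafify_etToEps F)

theorem isSheaf_etEps : Presieve.IsSheaf (etTop X) ((etEps F).obj ⋙ forget _) :=
  (isSheaf_iff_isSheaf_of_type _ _).1 ((Presheaf.isSheaf_iff_isSheaf_forget _ _ (forget _)).1 (etEps F).property)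

theorem isLP_etEps : IsLP ((etEps F).obj ⋙ forget _) := by
  let φ := Functor.whiskerRight (toSheafify (etTop X) (preEps F.obj)) (forget AddCommGrpCat.{u + 1})
  haveI : Presheaf.IsLocallySurjective (etTop X) φ :=
    (Presheaf.isLocallySurjective_iff_whisker_forget _ _).1 inferInstance
  haveI : Presheaf.IsLocallyInjective (etTop X) φ :=
    (Presheaf.isLocallyInjective_forget_iff _ _).2 inferInstance
  exact isLP_of_locallyBijective φ (isSheaf_etEps F) (isLP_preEps F.obj)

theorem etToEps_bijective_on_affine {B : X.ProEt} (hB : IsAffine B.left) :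
    Function.Bijective ((etToEps F).app (op B)) := by
  let ψ := Functor.whiskerRight (etToEps F) (forget AddCommGrpCat.{u + 1})
  haveI : Presheaf.IsLocallySurjective (Scheme.ProEt.topology X) ψ :=
    (Presheaf.isLocallySurjective_iff_whisker_forget _ _).1 inferInstance
  haveI : Presheaf.IsLocallyInjective (Scheme.ProEt.topology X) ψ :=
    (Presheaf.isLocallyInjective_forget_iff _ _).2 inferInstance
  exact ⟨fun y y' h => injective_on_affine ψ (isSheaf_etEps F) (isLP_etEps F) hB h,
    fun x => surjective_on_affine ψ (isSheaf_etEps F) (isLP_etEps F) (isSheaf_eps F) hB x⟩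

theorem isLP_eps : IsLP (((ProEtS.epsPull X).obj F).obj ⋙ forget _) := by
  let ψ := Functor.whiskerRight (etToEps F) (forget AddCommGrpCat.{u + 1})
  haveI : Presheaf.IsLocallySurjective (Scheme.ProEt.topology X) ψ :=
    (Presheaf.isLocallySurjective_iff_whisker_forget _ _).1 inferInstance
  haveI : Presheaf.IsLocallyInjective (Scheme.ProEt.topology X) ψ :=
    (Presheaf.isLocallyInjective_forget_iff _ _).2 inferInstance
  exact isLP_of_comparison ψ (isSheaf_etEps F) (isLP_etEps F) (isSheaf_eps F)

end Groth.Agent.H1EpsS
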