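import Groth.Agent.H1EpsS.CechLimit
import Groth.Agent.H1EpsS.Unit
import Groth.Agent.H18Cech.InjectiveVanish
import Mathlib.CategoryTheory.Preadditive.Injective.Preserves
import Mathlib.CategoryTheory.Sites.SheafCohomology.Basic

/-!
# Cech vanishing on pro-etale affine objects, and cohomology of pulled back injectives
-/

set_option autoImplicit false
set_option backward.isDefEq.respectTransparency false
set_option linter.style.haveILetI false

universe u

open CategoryTheory CategoryTheory.Limits AlgebraicGeometry Opposite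

attribute [local instance] IsCofiltered.isConnected CategoryTheory.isConnected_of_hasTerminal

namespace Groth.Agent.H1EpsS

open H26ProEt (toSch)

variable {X : Scheme.{u}}

/-- Vanishing of higher Cech cohomology of a single morphism. -/
def Van (P : X.ProEtᵒᵖ ⥤ AddCommGrpCat.{u + 1}) {V U : X.ProEt} (g : V ⟶ U) : Prop :=
  ∀ n : ℕ, IsZero (EtCech.cechH (single.{u + 1} g) P (n + 1))

theorem van_of_stages {I : Type u} [SmallCategory I] [IsCofiltered I] {DV DU : I ⥤ X.ProEt} (η : DV ⟶ DU)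
    (cV : Cone DV) (cU : Cone DU) (v : cV.pt ⟶ cU.pt) (hw : ∀ i, cV.π.app i ≫ η.app i = v ≫ cU.π.app i)
    {P : X.ProEtᵒᵖ ⥤ AddCommGrpCat.{u + 1}} (hP : IsLP (P ⋙ forget _))
    (hV : IsSchLimit cV) (hU : IsSchLimit cU) (hVa : ∀ i, IsAffine (DV.obj i).left)
    (hUa : ∀ i, IsAffine (DU.obj i).left) (hVt : IsAffine cV.pt.left) (hUt : IsAffine cU.pt.left)
    (h : ∀ i, Van P (η.app i)) : Van P v := fun n =>
  H18Cech.isZero_cechH_succ _ _ fun x hx => exists_d_eq_of_stages η cV cU v hw hP hV hU hVa hUa hVt hUt n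
    (fun i y hy => H18Cech.exists_of_isZero_cechH_succ _ P (h i n) y hy) x hx

/-- Affine objects over which affine etale morphisms have vanishing Cech cohomology. -/
structure Good (P : X.ProEtᵒᵖ ⥤ AddCommGrpCat.{u + 1}) (U : X.ProEt) : Prop where
  aff : IsAffine U.left
  van : ∀ ⦃D E : X.ProEt⦄ (d : D ⟶ U) (e : E ⟶ D), IsAffine D.left → IsAffine E.left → Etale d.left →
    Etale e.left → Van P e

variable {P : X.ProEtᵒᵖ ⥤ AddCommGrpCat.{u + 1}}

theorem Good.of_etale {U D : X.ProEt} (hU : Good P U) (d : D ⟶ U) [IsAffine D.left] [hd : Etale d.left] :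
    Good P D where
  aff := ‹_›
  van D' E d' e hD' hE hd' he := by
    haveI := hd'
    exact hU.van (d' ≫ d) e hD' hE (inferInstanceAs (Etale (d'.left ≫ d.left))) he

/-- An affine etale morphism to the limit is the limit of affine etale morphisms to the stages. -/
theorem exists_system_of_etale {I : Type u} [SmallCategory I] [IsCofiltered I] {D : I ⥤ X.ProEt} {c : Cone D}
    (hc : IsSchLimit c) (hD : ∀ i, IsAffine (D.obj i).left) (hT : IsAffine c.pt.left)
    {A : X.ProEt} [IsAffine A.left] (a : A ⟶ c.pt) [Etale a.left] :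
    ∃ (j : I) (D' : Over j ⥤ X.ProEt) (π : (Functor.const (Over j)).obj A ⟶ D') (η : D' ⟶ Over.forget j ⋙ D),
      Nonempty (IsSchLimit (Cone.mk A π)) ∧ (∀ k, IsAffine (D'.obj k).left) ∧ (∀ k, Etale (η.app k).left) ∧
      ∀ k, π.app k ≫ η.app k = a ≫ c.π.app k.left := by
  obtain ⟨j, Q, q, g, hQ, hq, hpb⟩ := exists_piece_stage hc hD hT a
  haveI := hQ
  haveI := hq
  let iso : A ≅ piecePt q c := hpb.isoPullback
  let π : (Functor.const (Over j)).obj A ⟶ pieceDiag D q :=
    { app := fun k => iso.hom ≫ ptπ q c k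
      naturality := fun k l φ => by
        show 𝟙 _ ≫ _ = _
        rw [Category.id_comp, Category.assoc, ptπ_map] }
  obtain ⟨hl⟩ := nonempty_isLimit_pieceCone q hc
  refine ⟨j, pieceDiag D q, π, { app := pSnd D q, naturality := fun _ _ φ => map_pSnd D q φ },
    ⟨IsLimit.ofIsoLimit hl (Cone.ext ((toSch X).mapIso iso).symm fun k => ?_)⟩,
    isAffine_pieceDiag q hD, fun k => ?_, fun k => ?_⟩
  · show (toSch X).map (ptπ q c k) = (toSch X).map iso.inv ≫ (toSch X).map (iso.hom ≫ ptπ q c k)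
    rw [← Functor.map_comp, Iso.inv_hom_id_assoc]
  · show Etale (pSnd D q k).left
    exact etale_pullback_snd q (D.map k.hom)
  · show (iso.hom ≫ ptπ q c k) ≫ pSnd D q k = _
    rw [Category.assoc, ptπ_snd, ← Category.assoc]
    congr 1
    exact hpb.isoPullback_hom_snd

theorem good_limit (hP : IsLP (P ⋙ forget _)) {I : Type u} [SmallCategory I] [IsCofiltered I]
    {D : I ⥤ X.ProEt} {c : Cone D} (hc : IsSchLimit c) (hD : ∀ i, Good P (D.obj i))
    (hT : IsAffine c.pt.left) : Good P c.pt where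
  aff := hT
  van A E a e hA hE ha he := by
    haveI := hA
    haveI := hE
    haveI := ha
    haveI := he
    obtain ⟨j, D₁, π₁, η₁, ⟨hc₁⟩, hD₁, hη₁, -⟩ := exists_system_of_etale hc (fun i => (hD i).aff) hT a
    obtain ⟨k, D₂, π₂, η₂, ⟨hc₂⟩, hD₂, hη₂, hw⟩ :=
      exists_system_of_etale (c := Cone.mk A π₁) hc₁ hD₁ hA e
    refine van_of_stages η₂ (Cone.mk E π₂) ((Cone.mk A π₁).whisker (Over.forget k)) e hw hP hc₂
      ((Functor.Initial.isLimitWhiskerEquiv (Over.forget k) ((toSch X).mapCone (Cone.mk A π₁))).symm hc₁)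
      hD₂ (fun l => hD₁ l.left) hE hA fun l => ?_
    exact (hD l.left.left).van (η₁.app l.left) (η₂.app l) (hD₁ l.left) (hD₂ l) (hη₁ l.left) (hη₂ l)

/-- A limit of affine etale morphisms to a fixed object. -/
def IsCov {V U : X.ProEt} (v : V ⟶ U) : Prop :=
  IsAffine V.left ∧ ∃ (I : Type u) (_ : SmallCategory I) (_ : IsCofiltered I) (D : I ⥤ X.ProEt)
    (π : (Functor.const I).obj V ⟶ D) (η : D ⟶ (Functor.const I).obj U),
    Nonempty (IsSchLimit (Cone.mk V π)) ∧ (∀ i, IsAffine (D.obj i).left) ∧ (∀ i, Etale (η.app i).left) ∧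
      ∀ i, π.app i ≫ η.app i = v

theorem isLimit_constCone {I : Type u} [SmallCategory I] [IsConnected I] (U : X.ProEt) :
    Nonempty (IsSchLimit (Cone.mk U (𝟙 ((Functor.const I).obj U)))) := by
  obtain ⟨i₀⟩ := (IsConnected.is_nonempty : Nonempty I)
  have key : ∀ s : Cone ((Functor.const I).obj U ⋙ toSch X), ∀ i, s.π.app i = s.π.app i₀ := fun s i => by
    refine constant_of_preserves_morphisms (α := s.pt ⟶ (toSch X).obj U) (fun k => s.π.app k) (fun k l f => ?_) i i₀
    rw [← s.w f]
    exact ((congrArg (s.π.app k ≫ ·) ((toSch X).map_id U)).trans (Category.comp_id _)).symm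
  refine ⟨{ lift := fun s => s.π.app i₀, fac := fun s i => ?_, uniq := fun s m hm => ?_ }⟩
  · exact (congrArg (s.π.app i₀ ≫ ·) ((toSch X).map_id U)).trans ((Category.comp_id _).trans (key s i).symm)
  · rw [← hm i₀]
    exact ((congrArg (m ≫ ·) ((toSch X).map_id U)).trans (Category.comp_id _)).symm

theorem van_of_isCov (hP : IsLP (P ⋙ forget _)) {V U : X.ProEt} {v : V ⟶ U} (hU : Good P U) (hv : IsCov v) :
    Van P v := by
  obtain ⟨hV, I, _, _, D, π, η, ⟨hc⟩, hD, hη, hw⟩ := hv
  obtain ⟨hcU⟩ := isLimit_constCone (I := I) U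
  refine van_of_stages η (Cone.mk V π) (Cone.mk U (𝟙 _)) v (fun i => (hw i).trans (Category.comp_id v).symm)
    hP hc hcU hD (fun _ => hU.aff) hV hU.aff fun i => ?_
  exact hU.van (𝟙 U) (η.app i) hU.aff (hD i) (inferInstanceAs (Etale (𝟙 U.left))) (hη i)

theorem good_pw (hP : IsLP (P ⋙ forget _)) {V U : X.ProEt} {v : V ⟶ U} (hU : Good P U) (hv : IsCov v) (n : ℕ) :
    Good P (pw.{u + 1} v n) := by
  obtain ⟨hV, I, _, _, D, π, η, ⟨hc⟩, hD, hη, hw⟩ := hv
  obtain ⟨hcU⟩ := isLimit_constCone (I := I) U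
  haveI := hV
  haveI := hU.aff
  obtain ⟨hl⟩ := nonempty_isLimit_pwCone η (Cone.mk V π) (Cone.mk U (𝟙 _)) v
    (fun i => (hw i).trans (Category.comp_id v).symm) hc hcU n
  refine good_limit hP hl (fun i => ?_) (isAffine_pw v n)
  haveI := hη i
  haveI := hD i
  haveI : IsAffine (((Functor.const I).obj U).obj i).left := hU.aff
  show Good P (pw.{u + 1} (η.app i) n)
  haveI : IsAffine (pw.{u + 1} (η.app i) n).left := isAffine_pw (η.app i) n
  haveI := etale_pwHom (η.app i) n
  exact hU.of_etale (pwHom.{u + 1} (η.app i) n)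

theorem exists_isCov {B V : X.ProEt} [IsAffine B.left] [IsAffine V.left] (v : V ⟶ B) [Surjective v.left] :
    ∃ (W : X.ProEt) (e : W ⟶ V), Surjective e.left ∧ IsCov (e ≫ v) := by
  obtain ⟨I, _, _, D, c, d, e, hc, hT, hD, hde, hes, hd, he⟩ := exists_indEtale_refinement v
  exact ⟨c.pt, e, hes, hT, I, inferInstance, inferInstance, D, c.π,
    { app := d, naturality := fun i j f => (hd f).trans (Category.comp_id _).symm }, hc, hD, hde, he⟩

section Sheaves

variable (P)

/-- Sheaves with vanishing Cech cohomology for coverings of good objects. -/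
def IsAcyc (M : ProEtS.AbP X) : Prop := ∀ ⦃V U : X.ProEt⦄ (v : V ⟶ U), Good P U → IsCov v → Van M.obj v

variable {P}

theorem isAcyc_of_injective (M : ProEtS.AbP X) [Injective M] : IsAcyc P M := by
  intro V U v _ _ n
  haveI : Injective M.obj := Injective.injective_of_adjoint
    (sheafificationAdjunction (Scheme.ProEt.topology X) AddCommGrpCat.{u + 1}) M
  exact H18Cech.isZero_cechH_of_injective _ _ n

variable {S : ShortComplex (ProEtS.AbP X)}

theorem sections_left_exact (hS : S.ShortExact) (V : X.ProEtᵒᵖ) :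
    Function.Injective (S.f.hom.app V) ∧ ∀ x, S.g.hom.app V x = 0 → ∃ y, S.f.hom.app V y = x := by
  haveI := hS.mono_f
  haveI : Mono ((sheafToPresheaf _ _).map S.f) := (sheafToPresheaf _ _).map_mono S.f
  refine ⟨(AddCommGrpCat.mono_iff_injective _).1
    (inferInstanceAs (Mono (((sheafToPresheaf _ _).map S.f).app V))), ?_⟩
  exact (ShortComplex.ab_exact_iff _).1 (hS.exact.map_of_mono_of_preservesKernel
    (sheafToPresheaf (Scheme.ProEt.topology X) AddCommGrpCat.{u + 1} ⋙ (evaluation _ _).obj V)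
    inferInstance inferInstance)

theorem surjective_sections (hS : S.ShortExact) (h₁ : IsAcyc P S.X₁) {U : X.ProEt} (hU : Good P U) :
    Function.Surjective (S.g.hom.app (op U)) := by
  intro s
  haveI := hU.aff
  haveI := hS.epi_g
  haveI : Sheaf.IsLocallySurjective S.g := (Sheaf.isLocallySurjective_iff_epi' _ S.g).2 inferInstance
  obtain ⟨κ, _, W, w, hW, hwT, -, hws⟩ := exists_finite_affine_surj
    (Presheaf.imageSieve_mem (Scheme.ProEt.topology X) S.g.hom (U := op U) s)
  obtain ⟨Q, j, hQ, hj, hglue, hdesc⟩ := exists_coprod_etTop W hW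
  obtain ⟨m, hm⟩ := hdesc w
  have hsh : ∀ M : ProEtS.AbP X, Presieve.IsSheaf (Scheme.ProEt.topology X)
      (M.obj ⋙ forget AddCommGrpCat.{u + 1}) := fun M =>
    (isSheaf_iff_isSheaf_of_type _ _).1 ((Presheaf.isSheaf_iff_isSheaf_forget _ _ (forget _)).1 M.property)
  have hsh' : ∀ M : ProEtS.AbP X, Presieve.IsSheaf (etTop X) (M.obj ⋙ forget AddCommGrpCat.{u + 1}) :=
    fun M {Z} R hR => hsh M R (etTop_le _ hR)
  choose r hr using hwT
  obtain ⟨t, ht⟩ := hglue _ (hsh' S.X₂) r
  have htm : S.g.hom.app _ t = S.X₃.obj.map m.op s :=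
    ext_of_cover (X := S.X₃.obj ⋙ forget _) (hsh' S.X₃) hj fun k => by
      show S.X₃.obj.map (j k).op (S.g.hom.app _ t) = S.X₃.obj.map (j k).op (S.X₃.obj.map m.op s)
      rw [← NatTrans.naturality_apply, ← Functor.map_comp_apply, ← op_comp, hm k]
      exact (congrArg _ (ht k)).trans (hr k)
  haveI := hQ
  haveI : Surjective m.left := ⟨fun b => by
    obtain ⟨k, y, hy⟩ := hws b
    refine ⟨(j k).left y, ?_⟩
    rw [← hy, ← hm k]
    rfl⟩
  obtain ⟨V, e, hes, hcov⟩ := exists_isCov m
  have hcovV : Sieve.ofArrows (fun _ : PUnit.{u + 2} => V) (fun _ => e ≫ m) ∈ Scheme.ProEt.topology X U := by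
    haveI := hcov.1
    refine (Scheme.ProEt.topology X).superset_covering ?_ (H26ProEt.mem_topology_of_finite_affine
      (ι := PUnit.{1}) (fun _ => V) (fun _ => e ≫ m) fun b => ?_)
    · rintro Z q ⟨_, a, _, ⟨-⟩, rfl⟩
      exact ⟨_, a, _, ⟨PUnit.unit⟩, rfl⟩
    · haveI := hes
      obtain ⟨y, hy⟩ := (e.left ≫ m.left).surjective b
      exact ⟨⟨⟩, y, hy⟩
  have hfor : ∀ M : ProEtS.AbP X, Presieve.IsSheafFor (M.obj ⋙ forget AddCommGrpCat.{u + 1})
      (Presieve.ofArrows (fun i => (single.{u + 1} (e ≫ m) i).left) fun i => (single.{u + 1} (e ≫ m) i).hom) :=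
    fun M => (Presieve.isSheafFor_iff_generate _).2 (hsh M _ hcovV)
  refine H18Cech.exists_lift_of_isZero (S := S.map (sheafToPresheaf _ _)) (single.{u + 1} (e ≫ m))
    (fun V => (sections_left_exact hS V).1) (fun V => (sections_left_exact hS V).2) (hfor S.X₂)
    (hfor S.X₃).isSeparatedFor (h₁ (e ≫ m) hU hcov 0) s fun _ => ⟨S.X₂.obj.map e.op t, ?_⟩
  refine (NatTrans.naturality_apply S.g.hom e.op t).trans ((congrArg _ htm).trans ?_)
  exact (Functor.map_comp_apply _ _ _ _).symm

theorem isAcyc_X₃ (hP : IsLP (P ⋙ forget _)) (hS : S.ShortExact) (h₁ : IsAcyc P S.X₁) (h₂ : IsAcyc P S.X₂) :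
    IsAcyc P S.X₃ := by
  intro V U v hU hv p
  have hT := H18Cech.shortExact_map (S := S.map (sheafToPresheaf _ _)) (single.{u + 1} v)
    (fun V => (sections_left_exact hS V).1) (fun V => (sections_left_exact hS V).2)
    fun n a => by
      obtain rfl : a = fun _ => PUnit.unit := funext fun _ => rfl
      exact surjective_sections hS h₁ (good_pw hP hU hv n)
  exact (hT.homology_exact₃ (p + 1) (p + 1 + 1) rfl).isZero_of_both_zeros
    ((h₂ v hU hv p).eq_of_src _ _) ((h₁ v hU hv (p + 1)).eq_of_tgt _ _)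

theorem subsingleton_H (hP : IsLP (P ⋙ forget _)) {T : X.ProEt} (hT : IsTerminal T) (hgood : Good P T) :
    ∀ (p : ℕ) (M : ProEtS.AbP X), IsAcyc P M → Subsingleton (ProEtS.HP X M (p + 1)) := by
  intro p
  induction p with
  | zero =>
    intro M hM
    let S := ShortComplex.mk (Injective.ι M) (cokernel.π (Injective.ι M)) (cokernel.condition _)
    have hS : S.ShortExact := { exact := ShortComplex.exact_of_g_is_cokernel _ (cokernelIsCokernel _) }
    refine subsingleton_of_forall_eq 0 fun x => ?_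
    obtain ⟨y, rfl⟩ := Abelian.Ext.covariant_sequence_exact₁ _ hS x (Abelian.Ext.eq_zero_of_injective _) rfl
    obtain ⟨φ, rfl⟩ := (Abelian.Ext.mk₀_bijective _ _).surjective y
    obtain ⟨s, hs⟩ := surjective_sections hS hM hgood
      (CategoryTheory.Sheaf.H.equiv₀ S.X₃ hT (Abelian.Ext.mk₀ φ))
    have h2 : CategoryTheory.Sheaf.H.map S.g 0 ((CategoryTheory.Sheaf.H.equiv₀ S.X₂ hT).symm s) =
        Abelian.Ext.mk₀ φ := by
      rw [CategoryTheory.Sheaf.H.equiv₀_symm_naturality, hs, AddEquiv.symm_apply_apply]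
    rw [← h2, CategoryTheory.Sheaf.H.map_apply, Abelian.Ext.comp_assoc_of_second_deg_zero,
      hS.comp_extClass, Abelian.Ext.comp_zero]
  | succ p ih =>
    intro M hM
    let S := ShortComplex.mk (Injective.ι M) (cokernel.π (Injective.ι M)) (cokernel.condition _)
    have hS : S.ShortExact := { exact := ShortComplex.exact_of_g_is_cokernel _ (cokernelIsCokernel _) }
    refine subsingleton_of_forall_eq 0 fun x => ?_
    obtain ⟨y, rfl⟩ := Abelian.Ext.covariant_sequence_exact₁ _ hS x (Abelian.Ext.eq_zero_of_injective _) rfl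
    rw [(ih S.X₃ (isAcyc_X₃ hP hS hM (isAcyc_of_injective _))).elim y 0, Abelian.Ext.zero_comp]

end Sheaves

section Eps

variable [ProEtS.EpsCont X] (I : EtCoh.Ab X) [Injective I]

theorem van_of_etale {D E : X.ProEt} (e : E ⟶ D) (hdh : Etale D.hom) (heh : Etale E.hom) :
    Van ((ProEtS.epsPull X).obj I).obj e := fun n => by
  let ee : etObj E heh ⟶ etObj D hdh :=
    MorphismProperty.Over.homMk e.left (MorphismProperty.Over.w e) trivial
  haveI : PreservesFiniteLimits (ProEtS.eps X ⋙ Scheme.ProEt.forget X) :=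
    inferInstanceAs (PreservesFiniteLimits (MorphismProperty.Over.forget EtCoh.etaleMP.{u} ⊤ X))
  haveI : PreservesFiniteLimits (ProEtS.eps X) :=
    preservesFiniteLimits_of_reflects_of_preserves (ProEtS.eps X) (Scheme.ProEt.forget X)
  haveI : HasFiniteWidePullbacks X.Etale := ⟨fun _ _ => inferInstance⟩
  haveI : IsIso ((ProEtS.epsAdj X).unit.app I) := isIso_unit I
  let G := ((ProEtS.epsPull X).obj I).obj
  haveI : Injective ((ProEtS.eps X).op ⋙ G) := by
    haveI : Injective I.obj := Injective.injective_of_adjoint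
      (sheafificationAdjunction X.smallEtaleTopology AddCommGrpCat.{u + 1}) I
    exact Injective.of_iso ((sheafToPresheaf _ _).mapIso (asIso ((ProEtS.epsAdj X).unit.app I))) ‹Injective I.obj›
  have h := H18Cech.isZero_cechH_of_injective (single.{u + 1} ee) ((ProEtS.eps X).op ⋙ G) n
  exact h.of_iso ((HomologicalComplex.homologyFunctor _ _ (n + 1)).mapIso
    (H18Cech.cechIso (ProEtS.eps X) (single.{u + 1} ee) G))

theorem good_etale {U : X.ProEt} [IsAffine U.left] (hU : Etale U.hom) :
    Good ((ProEtS.epsPull X).obj I).obj U where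
  aff := ‹_›
  van D E d e _ _ hd he := by
    haveI := hU
    haveI hdh : Etale D.hom := by
      rw [← MorphismProperty.Over.w d]
      exact inferInstanceAs (Etale (d.left ≫ U.hom))
    refine van_of_etale I e hdh ?_
    rw [← MorphismProperty.Over.w e]
    exact inferInstanceAs (Etale (e.left ≫ D.hom))

theorem H_vanish [IsAffine X] (p : ℕ) : Subsingleton (ProEtS.HP X ((ProEtS.epsPull X).obj I) (p + 1)) := by
  let T : X.ProEt := Scheme.ProEt.mk (𝟙 X)
  let hT : IsTerminal T := IsTerminal.ofUniqueHom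
    (fun Z => MorphismProperty.Over.homMk Z.hom (Category.comp_id _) trivial)
    fun Z m => MorphismProperty.Over.Hom.ext (by
      have := MorphismProperty.Over.w m
      exact (Category.comp_id m.left).symm.trans this)
  haveI : IsAffine T.left := ‹IsAffine X›
  exact subsingleton_H (isLP_eps I) hT (good_etale I (inferInstanceAs (Etale (𝟙 X)))) p _
    fun V U v hU hv => van_of_isCov (isLP_eps I) hU hv

end Eps

end Groth.Agent.H1EpsS
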