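import Groth.Agent.H18Cech.Lift
import Groth.Agent.H18Cech.Push

/-!
# Cech complexes of a single morphism: cochains as sections over fibre powers
-/

set_option autoImplicit false
set_option backward.isDefEq.respectTransparency false

universe w v u v' u'

open CategoryTheory CategoryTheory.Limits Opposite

namespace Groth.Agent.H1EpsS

open Groth.Agent.H18Cech (C' ev T)

variable {C : Type u} [Category.{v} C] [HasFiniteWidePullbacks C]

/-- The family consisting of a single morphism. -/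
abbrev single {V U : C} (g : V ⟶ U) : PUnit.{w + 1} → Over U := fun _ => Over.mk g

variable {V U : C} (g : V ⟶ U)

/-- The fibre power of a morphism. -/
noncomputable abbrev pw (n : ℕ) : C :=
  (∏ᶜ (single.{w} g ∘ fun _ : Fin (n + 1) => PUnit.unit.{w + 1})).left

/-- The structure map of the fibre power. -/
noncomputable abbrev pwHom (n : ℕ) : pw.{w} g n ⟶ U :=
  (∏ᶜ (single.{w} g ∘ fun _ : Fin (n + 1) => PUnit.unit.{w + 1})).hom

/-- The projections of the fibre power. -/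
noncomputable abbrev pwProj {n : ℕ} (k : Fin (n + 1)) : pw.{w} g n ⟶ V :=
  (Pi.π (single.{w} g ∘ fun _ : Fin (n + 1) => PUnit.unit.{w + 1}) k).left

theorem pwProj_comp {n : ℕ} (k : Fin (n + 1)) : pwProj.{w} g k ≫ g = pwHom.{w} g n :=
  Over.w (Pi.π (single.{w} g ∘ fun _ : Fin (n + 1) => PUnit.unit.{w + 1}) k)

/-- The universal tuple on the fibre power. -/
noncomputable abbrev univ (n : ℕ) : Fin (n + 1) → T (single.{w} g) (pwHom.{w} g n) :=
  fun k => ⟨⟨PUnit.unit, pwProj.{w} g k⟩, pwProj_comp.{w} g k⟩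

/-- A cochain as a section over the fibre power. -/
noncomputable abbrev el {P : Cᵒᵖ ⥤ AddCommGrpCat.{w}} {n : ℕ} (x : C' (single.{w} g) P n) :
    P.obj (op (pw.{w} g n)) :=
  ev (single.{w} g) P (univ g n) x

theorem exists_pwLift {Z : C} {h : Z ⟶ U} {n : ℕ} (τ : Fin (n + 1) → T (single.{w} g) h) :
    ∃ b : Z ⟶ pw.{w} g n, b ≫ pwHom.{w} g n = h ∧ ∀ k, b ≫ pwProj.{w} g k = (τ k).1.2 := by
  let b : Over.mk h ⟶ ∏ᶜ (single.{w} g ∘ fun _ : Fin (n + 1) => PUnit.unit.{w + 1}) :=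
    Pi.lift fun k => Over.homMk (τ k).1.2 (τ k).2
  refine ⟨b.left, Over.w b, fun k => ?_⟩
  exact congrArg (fun q => q.left) (Pi.lift_π (fun k => (Over.homMk (τ k).1.2 (τ k).2 :
    Over.mk h ⟶ (single.{w} g ∘ fun _ : Fin (n + 1) => PUnit.unit.{w + 1}) k)) k)

theorem pw_hom_ext {Z : C} {n : ℕ} {a a' : Z ⟶ pw.{w} g n}
    (hk : ∀ k, a ≫ pwProj.{w} g k = a' ≫ pwProj.{w} g k) : a = a' := by
  have h : a ≫ pwHom.{w} g n = a' ≫ pwHom.{w} g n := by
    rw [← pwProj_comp.{w} g 0, ← Category.assoc, hk, Category.assoc]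
  have e : (Over.homMk a rfl : Over.mk (a ≫ pwHom.{w} g n) ⟶ _) = Over.homMk a' h.symm :=
    Pi.hom_ext _ _ fun k => Over.OverMorphism.ext (hk k)
  exact congrArg (fun q => q.left) e

theorem ev_eq_map_el {P : Cᵒᵖ ⥤ AddCommGrpCat.{w}} {n : ℕ} (x : C' (single.{w} g) P n) {Z : C}
    {h : Z ⟶ U} (τ : Fin (n + 1) → T (single.{w} g) h) (b : Z ⟶ pw.{w} g n)
    (hb : b ≫ pwHom.{w} g n = h) (hbk : ∀ k, b ≫ pwProj.{w} g k = (τ k).1.2) :
    ev (single.{w} g) P τ x = P.map b.op (el g x) := by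
  refine Eq.trans (H18Cech.ev_congr (single.{w} g) P (τ' := H18Cech.pullT b hb (univ g n)) (fun k => ?_) x)
    (H18Cech.ev_natural (single.{w} g) P b hb (univ g n) x)
  obtain ⟨⟨⟨i, a⟩, ha⟩⟩ : Nonempty { p : T (single.{w} g) h // p = τ k } := ⟨⟨τ k, rfl⟩⟩
  exact Sigma.ext (Subsingleton.elim _ _) (heq_of_eq (hbk k).symm)

theorem el_injective {P : Cᵒᵖ ⥤ AddCommGrpCat.{w}} {n : ℕ} {x x' : C' (single.{w} g) P n}
    (h : el g x = el g x') : x = x' :=
  H18Cech.hom_ext _ P fun Z h' τ => by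
    obtain ⟨b, hb, hbk⟩ := exists_pwLift g τ
    rw [ev_eq_map_el g x τ b hb hbk, ev_eq_map_el g x' τ b hb hbk, h]

theorem exists_el_eq {P : Cᵒᵖ ⥤ AddCommGrpCat.{w}} {n : ℕ} (s : P.obj (op (pw.{w} g n))) :
    ∃ x : C' (single.{w} g) P n, el g x = s := by
  choose b hb hbk using fun (Z : C) (h : Z ⟶ U) (τ : Fin (n + 1) → T (single.{w} g) h) => exists_pwLift g τ
  have huniq : ∀ {Z : C} {a a' : Z ⟶ pw.{w} g n}, a ≫ pwHom.{w} g n = a' ≫ pwHom.{w} g n →
      (∀ k, a ≫ pwProj.{w} g k = a' ≫ pwProj.{w} g k) → a = a' := fun {Z a a'} h hk => by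
    have e : (Over.homMk a rfl : Over.mk (a ≫ pwHom.{w} g n) ⟶ _) = Over.homMk a' h.symm :=
      Pi.hom_ext _ _ fun k => Over.OverMorphism.ext (hk k)
    exact congrArg (fun q => q.left) e
  obtain ⟨x, hx⟩ := H18Cech.exists_ev_eq (single.{w} g) P (fun Z h τ => P.map (b Z h τ).op s)
    fun Z W h q τ => by
      show P.map (b W (q ≫ h) (H18Cech.pullT q rfl τ)).op s = (P.map q.op).hom (P.map (b Z h τ).op s)
      rw [show b W (q ≫ h) (H18Cech.pullT q rfl τ) = q ≫ b Z h τ from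
        huniq (by rw [hb, Category.assoc, hb]) fun k => (hbk _ _ _ k).trans ((congrArg (q ≫ ·) (hbk Z h τ k)).symm.trans (Category.assoc _ _ _).symm),
        op_comp, Functor.map_comp]
      rfl
  refine ⟨x, ?_⟩
  show ev _ P (univ g n) x = s
  rw [hx, show b _ _ (univ g n) = 𝟙 _ from huniq (by rw [hb, Category.id_comp])
    fun k => by rw [hbk, Category.id_comp], op_id, CategoryTheory.Functor.map_id]
  rfl

section Map

variable {g} {V' U' : C} {g' : V' ⟶ U'} (a : V' ⟶ V) (b : U' ⟶ U) (w : a ≫ g = g' ≫ b)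

include w

/-- Transport of a tuple along a square. -/
abbrev mapT {Z : C} {h : Z ⟶ U'} {n : ℕ} (τ : Fin (n + 1) → T (single.{w} g') h) :
    Fin (n + 1) → T (single.{w} g) (h ≫ b) :=
  fun k => ⟨⟨PUnit.unit, (τ k).1.2 ≫ a⟩, by
    show ((τ k).1.2 ≫ a) ≫ g = h ≫ b
    have e : (τ k).1.2 ≫ g' = h := (τ k).2
    rw [Category.assoc, w, ← Category.assoc, e]⟩

theorem exists_pullC (P : Cᵒᵖ ⥤ AddCommGrpCat.{w}) {n : ℕ} (x : C' (single.{w} g) P n) :
    ∃ y : C' (single.{w} g') P n, ∀ (Z : C) (h : Z ⟶ U') (τ : Fin (n + 1) → T (single.{w} g') h),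
      ev (single.{w} g') P τ y = ev (single.{w} g) P (mapT a b w τ) x :=
  H18Cech.exists_ev_eq (single.{w} g') P (fun Z h τ => ev (single.{w} g) P (mapT a b w τ) x)
    fun Z W h q τ => by
      refine Eq.trans (H18Cech.ev_congr _ P (τ' := H18Cech.pullT q
        (Category.assoc q h b).symm (mapT a b w τ)) (fun k => ?_) x)
        (H18Cech.ev_natural _ P q (Category.assoc q h b).symm _ x)
      exact Sigma.ext rfl (heq_of_eq (Category.assoc _ _ _))

/-- The pullback of cochains along a square. -/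
noncomputable def pullC (P : Cᵒᵖ ⥤ AddCommGrpCat.{w}) {n : ℕ} (x : C' (single.{w} g) P n) :
    C' (single.{w} g') P n :=
  (exists_pullC a b w P x).choose

theorem ev_pullC {P : Cᵒᵖ ⥤ AddCommGrpCat.{w}} {n : ℕ} (x : C' (single.{w} g) P n) {Z : C} {h : Z ⟶ U'}
    (τ : Fin (n + 1) → T (single.{w} g') h) :
    ev (single.{w} g') P τ (pullC a b w P x) = ev (single.{w} g) P (mapT a b w τ) x :=
  (exists_pullC a b w P x).choose_spec Z h τ

theorem d_pullC {P : Cᵒᵖ ⥤ AddCommGrpCat.{w}} {n : ℕ} (x : C' (single.{w} g) P n) :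
    (H18Cech.d (single.{w} g') P n).hom (pullC a b w P x) =
      pullC a b w P ((H18Cech.d (single.{w} g) P n).hom x) :=
  H18Cech.hom_ext _ P fun Z h τ => by
    rw [H18Cech.ev_d, ev_pullC, H18Cech.ev_d]
    exact Finset.sum_congr rfl fun j _ => congrArg _ (ev_pullC a b w x _)

theorem el_pullC {P : Cᵒᵖ ⥤ AddCommGrpCat.{w}} {n : ℕ} (x : C' (single.{w} g) P n)
    (q : pw.{w} g' n ⟶ pw.{w} g n) (hq : q ≫ pwHom.{w} g n = pwHom.{w} g' n ≫ b)
    (hqk : ∀ k, q ≫ pwProj.{w} g k = pwProj.{w} g' k ≫ a) :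
    el g' (pullC a b w P x) = P.map q.op (el g x) :=
  (ev_pullC a b w x _).trans (ev_eq_map_el g x _ q hq hqk)

end Map

section PwMap

variable {g} {V' U' : C} {g' : V' ⟶ U'} (a : V' ⟶ V) (b : U' ⟶ U) (w : a ≫ g = g' ≫ b)

/-- The map of fibre powers induced by a square. -/
noncomputable def pwMap (n : ℕ) : pw.{w} g' n ⟶ pw.{w} g n :=
  (exists_pwLift.{w} g (mapT.{w} a b w (univ.{w} g' n))).choose

theorem pwMap_hom (n : ℕ) : pwMap.{w} a b w n ≫ pwHom.{w} g n = pwHom.{w} g' n ≫ b :=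
  (exists_pwLift.{w} g (mapT.{w} a b w (univ.{w} g' n))).choose_spec.1

theorem pwMap_proj {n : ℕ} (k : Fin (n + 1)) :
    pwMap.{w} a b w n ≫ pwProj.{w} g k = pwProj.{w} g' k ≫ a :=
  (exists_pwLift.{w} g (mapT.{w} a b w (univ.{w} g' n))).choose_spec.2 k

end PwMap

section Image

variable {D : Type u'} [Category.{v'} D] [HasFiniteWidePullbacks D] (F : C ⥤ D)
  [PreservesLimitsOfShape WalkingCospan F]

theorem exists_map_pwLift {Z : D} (h : Z ⟶ F.obj U) {n : ℕ} (m : Fin (n + 1) → (Z ⟶ F.obj V))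
    (hm : ∀ k, m k ≫ F.map g = h) :
    ∃ b : Z ⟶ F.obj (pw.{w} g n), ∀ k, b ≫ F.map (pwProj.{w} g k) = m k := by
  haveI := H18Cech.preservesFiniteProducts_overPost F (U := U)
  let l := Fan.IsLimit.lift (isLimitOfHasProductOfPreservesLimit (Over.post F : Over U ⥤ Over (F.obj U))
    (single.{w} g ∘ fun _ : Fin (n + 1) => PUnit.unit.{w + 1}))
    fun k => (Over.homMk (m k) (hm k) : Over.mk h ⟶ (Over.post F).obj (Over.mk g))
  refine ⟨l.left, fun k => ?_⟩
  exact congrArg (fun q => q.left) (Fan.IsLimit.fac (isLimitOfHasProductOfPreservesLimit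
    (Over.post F : Over U ⥤ Over (F.obj U))
    (single.{w} g ∘ fun _ : Fin (n + 1) => PUnit.unit.{w + 1}))
    (fun k => (Over.homMk (m k) (hm k) : Over.mk h ⟶ (Over.post F).obj (Over.mk g))) k)

theorem map_pw_hom_ext {Z : D} {n : ℕ} {a a' : Z ⟶ F.obj (pw.{w} g n)}
    (hk : ∀ k, a ≫ F.map (pwProj.{w} g k) = a' ≫ F.map (pwProj.{w} g k)) : a = a' := by
  have h : a ≫ F.map (pwHom.{w} g n) = a' ≫ F.map (pwHom.{w} g n) := by
    rw [← pwProj_comp.{w} g 0, F.map_comp, ← Category.assoc, hk, Category.assoc]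
  haveI := H18Cech.preservesFiniteProducts_overPost F (U := U)
  have e : (Over.homMk a rfl : Over.mk (a ≫ F.map (pwHom.{w} g n)) ⟶
      (Over.post F : Over U ⥤ Over (F.obj U)).obj _) = Over.homMk a' h.symm :=
    Fan.IsLimit.hom_ext (isLimitOfHasProductOfPreservesLimit (Over.post F : Over U ⥤ Over (F.obj U))
      (single.{w} g ∘ fun _ : Fin (n + 1) => PUnit.unit.{w + 1})) _ _ fun k => Over.OverMorphism.ext (hk k)
  exact congrArg (fun q => q.left) e

end Image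

end Groth.Agent.H1EpsS
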