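import Groth.Agent.H1EpsS.Topology
import Mathlib.CategoryTheory.Sites.LocallySurjective

/-!
# Limit preservation passes along etale-locally bijective maps to etale sheaves
-/

set_option autoImplicit false
set_option backward.isDefEq.respectTransparency false

universe u

open CategoryTheory CategoryTheory.Limits AlgebraicGeometry Opposite

namespace Groth.Agent.H1EpsS

open H26ProEt (toSch)

variable {X : Scheme.{u}}

/-- Sections and equalities of sections descend along affine limits. -/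
def IsLP (Y : X.ProEtᵒᵖ ⥤ Type (u + 1)) : Prop :=
  ∀ ⦃I : Type u⦄ [SmallCategory I] [IsCofiltered I] (D : I ⥤ X.ProEt) (c : Cone D),
    IsSchLimit c → (∀ i, IsAffine (D.obj i).left) → IsAffine c.pt.left →
    (∀ x : Y.obj (op c.pt), Lifts Y c x) ∧
    ∀ (i : I) (y y' : Y.obj (op (D.obj i))),
      Y.map (c.π.app i).op y = Y.map (c.π.app i).op y' → EvEq D Y y y'

variable {P Q : X.ProEtᵒᵖ ⥤ Type (u + 1)} (φ : P ⟶ Q) (hQ : Presieve.IsSheaf (etTop X) Q)
  [Presheaf.IsLocallyInjective (etTop X) φ] [Presheaf.IsLocallySurjective (etTop X) φ]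

include φ hQ in
theorem evEq_of_isLP (hP : IsLP P) {I : Type u} [SmallCategory I] [IsCofiltered I] {D : I ⥤ X.ProEt}
    {c : Cone D} (hc : IsSchLimit c) (hD : ∀ i, IsAffine (D.obj i).left) (hT : IsAffine c.pt.left)
    (i : I) (y y' : Q.obj (op (D.obj i))) (h : Q.map (c.π.app i).op y = Q.map (c.π.app i).op y') :
    EvEq D Q y y' := by
  have := hD i
  obtain ⟨κ, _, V, g, hV, -, hg, -, hgR⟩ := exists_affine_cover ((etTop X).intersection_covering
    (Presheaf.imageSieve_mem (etTop X) φ (U := op (D.obj i)) y) (Presheaf.imageSieve_mem (etTop X) φ (U := op (D.obj i)) y'))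
  refine evEq_of_cover hQ hg fun k => ?_
  obtain ⟨⟨f₀, hf₀⟩, ⟨f₀', hf₀'⟩⟩ := hgR k
  obtain ⟨a, a', ha, ha'⟩ : ∃ a a' : P.obj (op ((pieceDiag D (g k)).obj (Over.mk (𝟙 i)))),
      φ.app _ a = Q.map (pTop D (g k)).op y ∧ φ.app _ a' = Q.map (pTop D (g k)).op y' :=
    ⟨P.map (pFst D (g k) _).op f₀, P.map (pFst D (g k) _).op f₀',
      by rw [NatTrans.naturality_apply, hf₀, ← Functor.map_comp_apply, ← op_comp, pFst_comp],
      by rw [NatTrans.naturality_apply, hf₀', ← Functor.map_comp_apply, ← op_comp, pFst_comp]⟩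
  haveI := hV k
  have hD₁ := isAffine_pieceDiag (g k) hD
  have hT₁ := isAffine_piecePt (g k) hD hT
  obtain ⟨hc₁⟩ := nonempty_isLimit_pieceCone (g k) hc
  have hR₂ := Presheaf.equalizerSieve_mem (etTop X) φ
    (P.map (ptπ (g k) c (Over.mk (𝟙 i))).op a) (P.map (ptπ (g k) c (Over.mk (𝟙 i))).op a') (by
      rw [NatTrans.naturality_apply, NatTrans.naturality_apply, ha, ha', ← Functor.map_comp_apply,
        ← Functor.map_comp_apply, ← op_comp, ptπ_pTop, op_comp, Functor.map_comp_apply, Functor.map_comp_apply]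
      exact congrArg _ h)
  obtain ⟨j, κ', _, V', g', hV', hg', hgR'⟩ := exists_cover_stage (c := pieceCone (g k) c) hc₁ hD₁ hT₁ hR₂
  let e : j ⟶ Over.mk (𝟙 i) := Over.homMk j.hom
  rw [← ha, ← ha']
  refine EvEq.of_map e (evEq_of_cover hQ hg' fun l => ?_)
  have hw : ptSnd (g' l) (pieceCone (g k) c) ≫ ptπ (g k) c j =
      ptπ (g' l) (pieceCone (g k) c) (Over.mk (𝟙 j)) ≫ pTop (pieceDiag D (g k)) (g' l) :=
    (ptπ_pTop (g' l) (pieceCone (g k) c)).symm
  have hEq := hgR' l (ptSnd (g' l) (pieceCone (g k) c)) (ptFst (g' l) (pieceCone (g k) c))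
    (isPullback_piecePt (g' l) (pieceCone (g k) c)).w
  haveI := hV' l
  obtain ⟨n, q, hq⟩ := (hP (pieceDiag (pieceDiag D (g k)) (g' l)) (pieceCone (g' l) (pieceCone (g k) c))
    (nonempty_isLimit_pieceCone (g' l) hc₁).some
    (isAffine_pieceDiag (g' l) hD₁) (isAffine_piecePt (g' l) hD₁ hT₁)).2 (Over.mk (𝟙 j))
    (P.map (pTop (pieceDiag D (g k)) (g' l)).op (P.map ((pieceDiag D (g k)).map e).op a))
    (P.map (pTop (pieceDiag D (g k)) (g' l)).op (P.map ((pieceDiag D (g k)).map e).op a'))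
    (by
      simp only [← Functor.map_comp_apply, ← op_comp]
      rw [← Category.assoc, ← hw, Category.assoc, ptπ_map, op_comp, Functor.map_comp_apply, Functor.map_comp_apply]
      exact hEq)
  refine ⟨n, q, ?_⟩
  have hq' := congrArg (φ.app _) hq
  simp only [NatTrans.naturality_apply] at hq'
  exact hq'

include φ hQ in
/-- An etale sheaf with an etale-locally bijective map from a limit preserving presheaf is limit
preserving. -/
theorem isLP_of_locallyBijective (hP : IsLP P) : IsLP Q := by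
  intro I _ _ D c hc hD hT
  refine ⟨fun x => ?_, evEq_of_isLP φ hQ hP hc hD hT⟩
  obtain ⟨j, κ, _, V, g, hV, hg, hgR⟩ := exists_cover_stage hc hD hT (Presheaf.imageSieve_mem (etTop X) φ (U := op c.pt) x)
  haveI := hD j
  haveI := hV
  refine lifts_of_cover c hQ hg (fun k l m y y' hy => ?_) fun k => ?_
  · haveI : IsAffine (pullback (g k) (g l)).left := isAffine_pullback_left _ _
    exact evEq_of_isLP φ hQ hP (nonempty_isLimit_pieceCone _ hc).some (isAffine_pieceDiag _ hD)
      (isAffine_piecePt _ hD hT) m y y' hy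
  · obtain ⟨f, hf⟩ := hgR k (ptSnd (g k) c) (ptFst (g k) c) (isPullback_piecePt (g k) c).w
    obtain ⟨n, z, hz⟩ := (hP (pieceDiag D (g k)) (pieceCone (g k) c)
      (nonempty_isLimit_pieceCone (g k) hc).some (isAffine_pieceDiag (g k) hD)
      (isAffine_piecePt (g k) hD hT)).1 f
    refine ⟨n, φ.app _ z, ?_⟩
    rw [← NatTrans.naturality_apply, hz]
    exact hf

end Groth.Agent.H1EpsS
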