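import Groth.Agent.H1EpsS.CechDict
import Groth.Agent.H1EpsS.SheafifyLP

/-!
# Cech cocycles on a limit of affine morphisms come from a stage
-/

set_option autoImplicit false
set_option backward.isDefEq.respectTransparency false
set_option linter.style.haveILetI false

universe u

open CategoryTheory CategoryTheory.Limits AlgebraicGeometry Opposite

namespace Groth.Agent.H1EpsS

open H26ProEt (toSch)

variable {X : Scheme.{u}}

instance : HasFiniteWidePullbacks X.ProEt :=
  ⟨fun _ _ => inferInstance⟩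

theorem preservesPullbacks_toSch : PreservesLimitsOfShape WalkingCospan (toSch X) := inferInstance

/-- The zeroth fibre power is the source. -/
theorem exists_iso_pw_zero {V U : X.ProEt} (g : V ⟶ U) :
    ∃ e : pw.{u + 1} g 0 ≅ V, e.hom ≫ g = pwHom.{u + 1} g 0 := by
  obtain ⟨b, -, hb⟩ := exists_pwLift.{u + 1} g (n := 0) (fun _ => ⟨⟨PUnit.unit, 𝟙 V⟩, Category.id_comp g⟩)
  let e : pw.{u + 1} g 0 ≅ V :=
    { hom := pwProj.{u + 1} g 0
      inv := b
      hom_inv_id := pw_hom_ext.{u + 1} g fun k => by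
        rw [Category.assoc, hb, Category.comp_id, Category.id_comp, Fin.fin_one_eq_zero k]
      inv_hom_id := hb 0 }
  exact ⟨e, pwProj_comp.{u + 1} g 0⟩

/-- Fibre powers are iterated fibre products. -/
theorem exists_iso_pw_succ {V U : X.ProEt} (g : V ⟶ U) (n : ℕ) :
    ∃ e : pw.{u + 1} g (n + 1) ≅ pullback (pwHom.{u + 1} g n) g,
      e.hom ≫ pullback.snd _ _ ≫ g = pwHom.{u + 1} g (n + 1) := by
  let p : pw.{u + 1} g (n + 1) ⟶ pw.{u + 1} g n :=
    (exists_pwLift.{u + 1} g (n := n) (fun k => ⟨⟨PUnit.unit, pwProj.{u + 1} g k.castSucc⟩, pwProj_comp.{u + 1} g k.castSucc⟩)).choose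
  have hp : p ≫ pwHom.{u + 1} g n = pwHom.{u + 1} g (n + 1) ∧ ∀ k, p ≫ pwProj.{u + 1} g k = pwProj.{u + 1} g k.castSucc :=
    (exists_pwLift.{u + 1} g (n := n) (fun k => ⟨⟨PUnit.unit, pwProj.{u + 1} g k.castSucc⟩, pwProj_comp.{u + 1} g k.castSucc⟩)).choose_spec
  obtain ⟨b, -, hb⟩ := exists_pwLift.{u + 1} g (n := n + 1) (Z := pullback (pwHom.{u + 1} g n) g)
    (h := pullback.snd (pwHom.{u + 1} g n) g ≫ g) (Fin.lastCases ⟨⟨PUnit.unit, pullback.snd _ _⟩, rfl⟩
      fun k => ⟨⟨PUnit.unit, pullback.fst _ _ ≫ pwProj.{u + 1} g k⟩, by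
        show (pullback.fst _ _ ≫ pwProj.{u + 1} g k) ≫ g = _
        rw [Category.assoc, pwProj_comp]; exact pullback.condition⟩)
  let l : pw.{u + 1} g (n + 1) ⟶ pullback (pwHom.{u + 1} g n) g :=
    pullback.lift p (pwProj.{u + 1} g (Fin.last (n + 1))) (by rw [hp.1, pwProj_comp])
  let e : pw.{u + 1} g (n + 1) ≅ pullback (pwHom.{u + 1} g n) g :=
    { hom := l
      inv := b
      hom_inv_id := pw_hom_ext.{u + 1} g fun k => by
        rw [Category.assoc, hb, Category.id_comp]
        refine Fin.lastCases ?_ (fun k => ?_) k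
        · rw [Fin.lastCases_last]; exact pullback.lift_snd _ _ _
        · rw [Fin.lastCases_castSucc]
          show l ≫ pullback.fst _ _ ≫ pwProj.{u + 1} g k = _
          rw [← Category.assoc, pullback.lift_fst, hp.2]
      inv_hom_id := by
        refine pullback.hom_ext ?_ ?_
        · rw [Category.assoc, pullback.lift_fst, Category.id_comp]
          refine pw_hom_ext.{u + 1} g fun k => ?_
          rw [Category.assoc, hp.2, hb, Fin.lastCases_castSucc]
        · rw [Category.assoc, pullback.lift_snd, hb, Fin.lastCases_last, Category.id_comp] }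
  refine ⟨e, ?_⟩
  show l ≫ _ = _
  rw [← Category.assoc, pullback.lift_snd, pwProj_comp]

theorem isAffine_pw {V U : X.ProEt} (g : V ⟶ U) [IsAffine V.left] [IsAffine U.left] (n : ℕ) :
    IsAffine (pw.{u + 1} g n).left := by
  induction n with
  | zero =>
    obtain ⟨e, -⟩ := exists_iso_pw_zero g
    haveI : IsAffine ((toSch X).obj V) := inferInstanceAs (IsAffine V.left)
    exact IsAffine.of_isIso ((toSch X).mapIso e).hom
  | succ n ih =>
    haveI := ih
    obtain ⟨e, -⟩ := exists_iso_pw_succ g n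
    haveI : IsAffine ((toSch X).obj (pullback (pwHom.{u + 1} g n) g)) := isAffine_pullback_left (pwHom.{u + 1} g n) g
    exact IsAffine.of_isIso ((toSch X).mapIso e).hom

theorem etale_pwHom {V U : X.ProEt} (g : V ⟶ U) [Etale g.left] (n : ℕ) :
    Etale (pwHom.{u + 1} g n).left := by
  cases n with
  | zero =>
    obtain ⟨e, he⟩ := exists_iso_pw_zero g
    rw [← he]
    haveI : IsIso e.hom.left := ((toSch X).mapIso e).isIso_hom
    exact inferInstanceAs (Etale (e.hom.left ≫ g.left))
  | succ n =>
    haveI := etale_pwHom g n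
    obtain ⟨e, he⟩ := exists_iso_pw_succ g n
    rw [← he]
    haveI : IsIso e.hom.left := ((toSch X).mapIso e).isIso_hom
    haveI := etale_pullback_snd (pwHom.{u + 1} g n) g
    exact inferInstanceAs (Etale (e.hom.left ≫ (pullback.snd (pwHom.{u + 1} g n) g).left ≫ g.left))

variable {I : Type u} [SmallCategory I] {DV DU : I ⥤ X.ProEt} (η : DV ⟶ DU)
  (cV : Cone DV) (cU : Cone DU) (v : cV.pt ⟶ cU.pt) (hw : ∀ i, cV.π.app i ≫ η.app i = v ≫ cU.π.app i)

/-- The system of fibre powers. -/
noncomputable def pwDiag (n : ℕ) : I ⥤ X.ProEt where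
  obj i := pw.{u + 1} (η.app i) n
  map f := pwMap.{u + 1} (DV.map f) (DU.map f) (η.naturality f) n
  map_id i := pw_hom_ext (η.app i) fun k => by
    rw [pwMap_proj, CategoryTheory.Functor.map_id, Category.comp_id]; exact (Category.id_comp _).symm
  map_comp f f' := pw_hom_ext (η.app _) fun k => by
    rw [pwMap_proj, Category.assoc, pwMap_proj, ← Category.assoc, pwMap_proj, DV.map_comp, Category.assoc]

/-- The cone of fibre powers. -/
noncomputable def pwCone (n : ℕ) : Cone (pwDiag η n) where
  pt := pw.{u + 1} v n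
  π :=
    { app := fun i => pwMap (cV.π.app i) (cU.π.app i) (hw i) n
      naturality := fun i j f => pw_hom_ext (η.app j) fun k => by
        show (𝟙 _ ≫ _) ≫ _ = (_ ≫ pwMap (DV.map f) (DU.map f) (η.naturality f) n) ≫ _
        rw [Category.id_comp, pwMap_proj, Category.assoc, pwMap_proj, ← Category.assoc, pwMap_proj,
          Category.assoc, cV.w] }

theorem nonempty_isLimit_pwCone (hV : IsSchLimit cV) (hU : IsSchLimit cU) (n : ℕ) :
    Nonempty (IsSchLimit (pwCone η cV cU v hw n)) := by
  haveI := preservesPullbacks_toSch (X := X)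
  have key : ∀ s : Cone (pwDiag η n ⋙ toSch X), ∃ b : s.pt ⟶ (toSch X).obj (pw.{u + 1} v n),
      ∀ k i, b ≫ (toSch X).map (pwProj v k) ≫ (toSch X).map (cV.π.app i) =
        s.π.app i ≫ (toSch X).map (pwProj (η.app i) k) := by
    intro s
    let tV : Fin (n + 1) → Cone (DV ⋙ toSch X) := fun k =>
      { pt := s.pt
        π :=
          { app := fun i => s.π.app i ≫ (toSch X).map (pwProj (η.app i) k)
            naturality := fun i j f => by
              rw [← s.w f]
              simp only [Functor.const_obj_map, Category.assoc, Functor.comp_map, ← Functor.map_comp]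
              rw [show (pwDiag η n).map f = pwMap (DV.map f) (DU.map f) (η.naturality f) n from rfl, pwMap_proj]
              exact Category.id_comp _ } }
    let tU : Cone (DU ⋙ toSch X) :=
      { pt := s.pt
        π :=
          { app := fun i => s.π.app i ≫ (toSch X).map (pwHom (η.app i) n)
            naturality := fun i j f => by
              rw [← s.w f]
              simp only [Functor.const_obj_map, Category.assoc, Functor.comp_map, ← Functor.map_comp]
              rw [show (pwDiag η n).map f = pwMap (DV.map f) (DU.map f) (η.naturality f) n from rfl, pwMap_hom]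
              exact Category.id_comp _ } }
    obtain ⟨b, hb⟩ := exists_map_pwLift v (toSch X) (hU.lift tU) (fun k => hV.lift (tV k)) fun k =>
      hU.hom_ext fun i => by
        rw [hU.fac tU i, Category.assoc]
        show hV.lift (tV k) ≫ (toSch X).map v ≫ (toSch X).map (cU.π.app i) = _
        rw [← Functor.map_comp, ← hw, Functor.map_comp, ← Category.assoc]
        refine (congrArg (· ≫ _) (hV.fac (tV k) i)).trans ?_
        show (s.π.app i ≫ _) ≫ _ = s.π.app i ≫ _
        rw [Category.assoc, ← Functor.map_comp, pwProj_comp]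
    exact ⟨b, fun k i => by rw [← Category.assoc, hb]; exact hV.fac (tV k) i⟩
  choose b hb using key
  refine ⟨{ lift := b, fac := fun s i => ?_, uniq := fun s m hm => ?_ }⟩
  · refine map_pw_hom_ext (η.app i) (toSch X) fun k => ?_
    show (b s ≫ (toSch X).map (pwMap _ _ (hw i) n)) ≫ _ = _
    rw [Category.assoc, ← Functor.map_comp, pwMap_proj, Functor.map_comp]
    exact hb s k i
  · refine map_pw_hom_ext v (toSch X) fun k => hV.hom_ext fun i => ?_
    show (m ≫ _) ≫ (toSch X).map (cV.π.app i) = (b s ≫ _) ≫ (toSch X).map (cV.π.app i)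
    rw [Category.assoc, Category.assoc, hb s k i, ← hm i]
    show m ≫ _ = (m ≫ (toSch X).map (pwMap _ _ (hw i) n)) ≫ _
    rw [Category.assoc, ← Functor.map_comp, ← Functor.map_comp, pwMap_proj]

theorem isAffine_pwDiag (hV : ∀ i, IsAffine (DV.obj i).left) (hU : ∀ i, IsAffine (DU.obj i).left) (n : ℕ) (i : I) :
    IsAffine ((pwDiag η n).obj i).left :=
  haveI := hV i
  haveI := hU i
  isAffine_pw (η.app i) n

variable {P : X.ProEtᵒᵖ ⥤ AddCommGrpCat.{u + 1}}

/-- Cocycles on the limit are coboundaries if all cocycles at the stages are, for systems of fibre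
powers along which sections descend. -/
theorem exists_d_eq_of_descends
    (hP : ∀ m, (∀ z : P.obj (op (pw.{u + 1} v m)), Lifts (P ⋙ forget _) (pwCone η cV cU v hw m) z) ∧
      ∀ (i : I) (z z' : P.obj (op ((pwDiag η m).obj i))),
        P.map ((pwCone η cV cU v hw m).π.app i).op z = P.map ((pwCone η cV cU v hw m).π.app i).op z' →
          EvEq (pwDiag η m) (P ⋙ forget _) z z')
    (n : ℕ)
    (hstage : ∀ (i : I) (x : H18Cech.C' (single.{u + 1} (η.app i)) P (n + 1)),
      (H18Cech.d _ P (n + 1)).hom x = 0 → ∃ y, (H18Cech.d _ P n).hom y = x)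
    (x : H18Cech.C' (single.{u + 1} v) P (n + 1)) (hx : (H18Cech.d _ P (n + 1)).hom x = 0) :
    ∃ y, (H18Cech.d _ P n).hom y = x := by
  obtain ⟨i, s, hs⟩ := (hP (n + 1)).1 (el v x)
  obtain ⟨x₀, hx₀⟩ := exists_el_eq (η.app i) (P := P) s
  have hpull : ∀ {m : ℕ} (j : I) (z : H18Cech.C' (single.{u + 1} (η.app j)) P m),
      el v (pullC (cV.π.app j) (cU.π.app j) (hw j) P z) =
        P.map ((pwCone η cV cU v hw m).π.app j).op (el (η.app j) z) :=
    fun {m} j z => el_pullC _ _ (hw j) z _ (pwMap_hom _ _ _ _) fun k => pwMap_proj _ _ _ k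
  have hxx : pullC (cV.π.app i) (cU.π.app i) (hw i) P x₀ = x := by
    apply el_injective v
    rw [hpull, hx₀]
    exact hs
  obtain ⟨j, f, hf⟩ := (hP (n + 2)).2 i (el (η.app i) ((H18Cech.d _ P (n + 1)).hom x₀)) 0 (by
      refine (hpull (m := n + 2) i _).symm.trans ?_
      rw [← d_pullC, hxx]
      exact (congrArg (el v) hx).trans ((map_zero (H18Cech.ev (single.{u + 1} v) P (univ v (n + 1 + 1)))).trans
        (map_zero (P.map ((pwCone η cV cU v hw (n + 2)).π.app i).op).hom).symm))
  let x₁ := pullC (DV.map f) (DU.map f) (η.naturality f) P x₀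
  have hdx₁ : (H18Cech.d _ P (n + 1)).hom x₁ = 0 := by
    apply el_injective (η.app j)
    rw [d_pullC, el_pullC (DV.map f) (DU.map f) (η.naturality f) _ _ (pwMap_hom _ _ _ _)
      fun k => pwMap_proj _ _ _ k]
    refine (hf.trans (map_zero (P.map ((pwDiag η (n + 2)).map f).op).hom)).trans ?_
    exact (map_zero _).symm
  obtain ⟨y, hy⟩ := hstage j x₁ hdx₁
  refine ⟨pullC (cV.π.app j) (cU.π.app j) (hw j) P y, ?_⟩
  rw [d_pullC, hy, ← hxx]
  refine el_injective v ?_
  rw [hpull, hpull, el_pullC (DV.map f) (DU.map f) (η.naturality f) _ _ (pwMap_hom _ _ _ _)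
    fun k => pwMap_proj _ _ _ k]
  refine (Functor.map_comp_apply _ _ _ _).symm.trans ?_
  exact congrArg (fun q => P.map q (el (η.app i) x₀)) (congrArg Quiver.Hom.op ((pwCone η cV cU v hw (n + 1)).w f))
  exact η.naturality f

variable [IsCofiltered I] (hP : IsLP (P ⋙ forget _))
  (hV : IsSchLimit cV) (hU : IsSchLimit cU) (hVa : ∀ i, IsAffine (DV.obj i).left)
  (hUa : ∀ i, IsAffine (DU.obj i).left) (hVt : IsAffine cV.pt.left) (hUt : IsAffine cU.pt.left)

include hw hP hV hU hVa hUa hVt hUt

/-- A cocycle on the limit is a coboundary if all cocycles at the stages are. -/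
theorem exists_d_eq_of_stages (n : ℕ)
    (hstage : ∀ (i : I) (x : H18Cech.C' (single.{u + 1} (η.app i)) P (n + 1)),
      (H18Cech.d _ P (n + 1)).hom x = 0 → ∃ y, (H18Cech.d _ P n).hom y = x)
    (x : H18Cech.C' (single.{u + 1} v) P (n + 1)) (hx : (H18Cech.d _ P (n + 1)).hom x = 0) :
    ∃ y, (H18Cech.d _ P n).hom y = x :=
  haveI := hVt
  haveI := hUt
  exists_d_eq_of_descends η cV cU v hw (fun m => hP (pwDiag η m) (pwCone η cV cU v hw m)
    (nonempty_isLimit_pwCone η cV cU v hw hV hU m).some (isAffine_pwDiag η hVa hUa m) (isAffine_pw v m))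
    n hstage x hx

end Groth.Agent.H1EpsS
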