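import Groth.Agent.H1EpsS.QCech
import Groth.Agent.S0714
import Mathlib.CategoryTheory.Sites.SheafCohomology.Basic
import Mathlib.CategoryTheory.Abelian.GrothendieckCategory.Basic
import Mathlib.CategoryTheory.Limits.Preserves.Shapes.Products

/-!
# Pro-etale cohomology of a qcqs scheme commutes with direct sums
-/

set_option autoImplicit false
set_option backward.isDefEq.respectTransparency false
set_option linter.style.haveILetI false

universe u v w

open CategoryTheory CategoryTheory.Limits AlgebraicGeometry Opposite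

namespace Groth.Agent.H1EpsS

section Support

variable {A : Type w} [Category.{v} A] [Preadditive A] {ι : Type u} (F : ι → A) [HasCoproduct F]

open scoped Classical in
/-- The idempotent of a finite set of summands. -/
noncomputable def eT (t : Finset ι) : ∐ F ⟶ ∐ F :=
  Sigma.desc fun i => if i ∈ t then Sigma.ι F i else 0

open scoped Classical in
/-- The projection to a summand. -/
noncomputable def prj (i : ι) : ∐ F ⟶ F i :=
  Sigma.desc fun j => if h : j = i then eqToHom (congrArg F h) else 0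

theorem ι_eT_of_mem {t : Finset ι} {i : ι} (h : i ∈ t) : Sigma.ι F i ≫ eT F t = Sigma.ι F i := by
  classical
  simp [eT, h]

theorem ι_eT_of_notMem {t : Finset ι} {i : ι} (h : i ∉ t) : Sigma.ι F i ≫ eT F t = 0 := by
  classical
  simp [eT, h]

theorem ι_prj_self (i : ι) : Sigma.ι F i ≫ prj F i = 𝟙 _ := by
  classical
  simp [prj]

theorem ι_prj_of_ne {i j : ι} (h : j ≠ i) : Sigma.ι F j ≫ prj F i = 0 := by
  classical
  simp [prj, h]

theorem eT_empty : eT F ∅ = 0 := Sigma.hom_ext _ _ fun i => by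
  rw [ι_eT_of_notMem F (Finset.notMem_empty i), comp_zero]

theorem eT_insert [DecidableEq ι] {t : Finset ι} {a : ι} (ha : a ∉ t) :
    eT F (insert a t) = prj F a ≫ Sigma.ι F a + eT F t := Sigma.hom_ext _ _ fun i => by
  rw [Preadditive.comp_add]
  by_cases h : i = a
  · subst h
    rw [ι_eT_of_mem F (Finset.mem_insert_self _ _), ι_eT_of_notMem F ha, ← Category.assoc, ι_prj_self,
      Category.id_comp, add_zero]
  · rw [← Category.assoc, ι_prj_of_ne F h, zero_comp, zero_add]
    by_cases ht : i ∈ t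
    · rw [ι_eT_of_mem F ht, ι_eT_of_mem F (Finset.mem_insert_of_mem ht)]
    · rw [ι_eT_of_notMem F ht, ι_eT_of_notMem F (by simp [h, ht])]

theorem eT_comp_eT {s t : Finset ι} (h : s ⊆ t) : eT F s ≫ eT F t = eT F s := Sigma.hom_ext _ _ fun i => by
  by_cases hs : i ∈ s
  · rw [← Category.assoc, ι_eT_of_mem F hs, ι_eT_of_mem F (h hs)]
  · rw [← Category.assoc, ι_eT_of_notMem F hs, zero_comp]

theorem eT_naturality {G : ι → A} [HasCoproduct G] (φ : ∀ i, F i ⟶ G i) (t : Finset ι) :
    eT F t ≫ Limits.Sigma.map φ = Limits.Sigma.map φ ≫ eT G t := Sigma.hom_ext _ _ fun i => by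
  have h1 : Sigma.ι F i ≫ Limits.Sigma.map φ = φ i ≫ Sigma.ι G i := Sigma.ι_map _ _
  by_cases hi : i ∈ t
  · rw [← Category.assoc, ι_eT_of_mem F hi, ← Category.assoc, h1, Category.assoc, ι_eT_of_mem G hi]
  · rw [← Category.assoc, ι_eT_of_notMem F hi, zero_comp, ← Category.assoc, h1, Category.assoc,
      ι_eT_of_notMem G hi, comp_zero]

variable (G : A ⥤ AddCommGrpCat.{v}) [G.Additive]

theorem map_eT_apply (t : Finset ι) (x : G.obj (∐ F)) :
    G.map (eT F t) x = ∑ i ∈ t, G.map (Sigma.ι F i) (G.map (prj F i) x) := by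
  classical
  induction t using Finset.induction with
  | empty =>
    rw [eT_empty, G.map_zero, Finset.sum_empty]
    rfl
  | @insert a t ha ih =>
    rw [eT_insert F ha, G.map_add, Finset.sum_insert ha, ← ih, G.map_comp]
    rfl

theorem eq_of_supp_subset {s t : Finset ι} (h : s ⊆ t) {x : G.obj (∐ F)} (hx : G.map (eT F s) x = x) :
    G.map (eT F t) x = x := by
  refine (congrArg (G.map (eT F t)) hx.symm).trans ?_
  rw [← Functor.map_comp_apply, eT_comp_eT F h]
  exact hx

/-- Finitely supported elements form a subgroup. -/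
noncomputable def suppSubgroup : AddSubgroup (G.obj (∐ F)) where
  carrier := {x | ∃ t, G.map (eT F t) x = x}
  zero_mem' := ⟨∅, map_zero _⟩
  add_mem' := by
    classical
    rintro x y ⟨s, hs⟩ ⟨t, ht⟩
    exact ⟨s ∪ t, by rw [map_add, eq_of_supp_subset F G Finset.subset_union_left hs,
      eq_of_supp_subset F G Finset.subset_union_right ht]⟩
  neg_mem' := by
    rintro x ⟨t, ht⟩
    exact ⟨t, by rw [map_neg, ht]⟩

theorem mem_suppSubgroup_ι (i : ι) (y : G.obj (F i)) : G.map (Sigma.ι F i) y ∈ suppSubgroup F G :=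
  ⟨{i}, by rw [← Functor.map_comp_apply, ι_eT_of_mem F (Finset.mem_singleton_self i)]⟩

end Support

/-- The image of a structure map of a colimit. -/
noncomputable def rangeι {K : Type*} [Category K] {D : K ⥤ AddCommGrpCat.{v}} (c : Cocone D) (k : K) :
    AddSubgroup c.pt :=
  (c.ι.app k).hom.range

/-- A colimit of abelian groups is generated by the images of the structure maps. -/
theorem iSup_range_eq_top {K : Type*} [Category K] {D : K ⥤ AddCommGrpCat.{v}} {c : Cocone D} (hc : IsColimit c) :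
    ⨆ k, rangeι c k = ⊤ := by
  let H : AddSubgroup c.pt := ⨆ k, rangeι c k
  have h : AddCommGrpCat.ofHom (QuotientAddGroup.mk' H) = (0 : c.pt ⟶ AddCommGrpCat.of (c.pt ⧸ H)) :=
    hc.hom_ext fun k => by
      ext x
      exact (QuotientAddGroup.eq_zero_iff _).2 (AddSubgroup.mem_iSup_of_mem k ⟨x, rfl⟩)
  exact top_unique fun x _ => (QuotientAddGroup.eq_zero_iff x).1 (ConcreteCategory.congr_hom h x)

/-- Exactness in functor categories is pointwise. -/
theorem exact_of_app {K : Type*} [Category K] {A : Type*} [Category A] [Abelian A]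
    (T : ShortComplex (K ⥤ A)) (h : ∀ k, (T.map ((evaluation K A).obj k)).Exact) : T.Exact := by
  rw [ShortComplex.exact_iff_isZero_homology]
  exact Functor.isZero _ fun k => IsZero.of_iso ((ShortComplex.exact_iff_isZero_homology _).1 (h k))
    (T.mapHomologyIso ((evaluation K A).obj k)).symm

variable {X : Scheme.{u}} {ι : Type u} (F : ι → ProEtS.AbP X)

/-- Sections as a functor. -/
noncomputable abbrev sectF (U : X.ProEt) : ProEtS.AbP X ⥤ AddCommGrpCat.{u + 1} :=
  sheafToPresheaf _ _ ⋙ (evaluation _ _).obj (op U)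

theorem exists_supp_sect (U : X.ProEt) [CompactSpace U.left] (s : ((∐ F).obj).obj (op U)) :
    ∃ t, (sectF U).map (eT F t) s = s := by
  classical
  let J := Scheme.ProEt.topology X
  let D := Discrete.functor F
  let E := colimit.cocone (D ⋙ sheafToPresheaf J AddCommGrpCat.{u + 1})
  let hS := Sheaf.isColimitSheafifyCocone E (colimit.isColimit _)
  let e : (Sheaf.sheafifyCocone E).pt ≅ ∐ F := hS.coconePointUniqueUpToIso (coproductIsCoproduct F)
  have he : ∀ i, (Sheaf.sheafifyCocone E).ι.app ⟨i⟩ ≫ e.hom = Sigma.ι F i := fun i =>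
    hS.comp_coconePointUniqueUpToIso_hom _ ⟨i⟩
  let q : E.pt ⟶ (∐ F).obj := toSheafify J E.pt ≫ e.hom.hom
  have hq : ∀ i, E.ι.app ⟨i⟩ ≫ q = (Sigma.ι F i).hom := fun i => by
    rw [← he i]
    show E.ι.app ⟨i⟩ ≫ toSheafify J E.pt ≫ e.hom.hom = ((Sheaf.sheafifyCocone E).ι.app ⟨i⟩).hom ≫ e.hom.hom
    rw [Sheaf.sheafifyCocone_ι_app_val, Category.assoc]
  haveI : Presheaf.IsLocallySurjective J q := by
    haveI : IsIso e.hom.hom := ((sheafToPresheaf J AddCommGrpCat.{u + 1}).mapIso e).isIso_hom
    infer_instance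
  obtain ⟨V, g, hg, hV, -⟩ := S0714.result U
  haveI := hV
  obtain ⟨n, W, w, -, hwT, hW⟩ := H26ProEt.exists_finite_affine
    (J.pullback_stable g (Presheaf.imageSieve_mem J q (U := op U) s))
  have hgen : ∀ Z, ∀ r : E.pt.obj (op Z), q.app (op Z) r ∈ suppSubgroup F (sectF Z) := fun Z r => by
    have hr : r ∈ ⨆ k, rangeι (((evaluation X.ProEtᵒᵖ AddCommGrpCat.{u + 1}).obj (op Z)).mapCocone E) k := by
      rw [iSup_range_eq_top (isColimitOfPreserves _ (colimit.isColimit _))]
      exact AddSubgroup.mem_top _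
    refine AddSubgroup.iSup_induction (C := fun r => q.app (op Z) r ∈ suppSubgroup F (sectF Z)) _ hr ?_ ?_ ?_
    · rintro ⟨i⟩ _ ⟨y, rfl⟩
      exact (ConcreteCategory.congr_hom (NatTrans.congr_app (hq i) (op Z)) y).symm ▸
        mem_suppSubgroup_ι F (sectF Z) i y
    · rw [map_zero]
      exact zero_mem _
    · intro a b ha hb
      rw [map_add]
      exact add_mem ha hb
  choose r hr using hwT
  choose t ht using fun k => hgen (W k) (r k)
  let T : Finset ι := Finset.univ.biUnion t
  refine ⟨T, ?_⟩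
  have hsh : Presieve.IsSheaf J ((∐ F).obj ⋙ forget AddCommGrpCat.{u + 1}) :=
    (isSheaf_iff_isSheaf_of_type _ _).1 ((Presheaf.isSheaf_iff_isSheaf_forget _ _ (forget _)).1 (∐ F).property)
  have hcov : Sieve.ofArrows W (fun k => w k ≫ g) ∈ J U := by
    refine J.transitive hg _ ?_
    rintro Z q' ⟨_, a, _, ⟨⟩, rfl⟩
    rw [Sieve.pullback_comp]
    refine J.pullback_stable a (J.superset_covering ?_ hW)
    rintro Z' q'' ⟨_, a', _, ⟨k⟩, rfl⟩
    exact ⟨_, a', _, ⟨k⟩, (Category.assoc _ _ _).symm⟩
  refine (hsh _ hcov).isSeparatedFor.ext fun Z h hh => ?_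
  obtain ⟨_, a, _, ⟨k⟩, rfl⟩ := hh
  show (∐ F).obj.map (a ≫ w k ≫ g).op ((eT F T).hom.app (op U) s) = (∐ F).obj.map (a ≫ w k ≫ g).op s
  rw [op_comp, Functor.map_comp_apply, Functor.map_comp_apply]
  refine congrArg _ ?_
  rw [← NatTrans.naturality_apply, ← hr k]
  exact eq_of_supp_subset F (sectF (W k)) (Finset.subset_biUnion_of_mem t (Finset.mem_univ k)) (ht k)

/-- Coverings of qcqs objects by affine weakly contractible ones. -/
def IsWCCov {V U : X.ProEt} (v : V ⟶ U) : Prop :=
  CompactSpace U.left ∧ QuasiSeparatedSpace U.left ∧ IsAffine V.left ∧ ProEtS.IsWC V ∧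
    Sieve.generate (Presieve.singleton v) ∈ Scheme.ProEt.topology X U

/-- Acyclicity for these coverings. -/
def IsWAcyc (M : ProEtS.AbP X) : Prop := ∀ ⦃V U : X.ProEt⦄ (v : V ⟶ U), IsWCCov v → Van M.obj v

theorem qcqs_pw {V U : X.ProEt} {v : V ⟶ U} (hv : IsWCCov v) (n : ℕ) :
    CompactSpace (pw.{u + 1} v n).left ∧ QuasiSeparatedSpace (pw.{u + 1} v n).left := by
  obtain ⟨h₁, h₂, h₃, -, -⟩ := hv
  haveI := h₁
  haveI := h₂
  haveI := h₃
  haveI : QuasiCompact v.left := quasiCompact_of_compactSpace _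
  haveI : QuasiSeparated v.left := inferInstance
  haveI := (qc_qs_pwHom v n).1
  haveI := (qc_qs_pwHom v n).2
  exact ⟨QuasiCompact.compactSpace_of_compactSpace (pwHom.{u + 1} v n).left,
    quasiSeparatedSpace_of_quasiSeparated (pwHom.{u + 1} v n).left⟩

theorem isWAcyc_of_injective (M : ProEtS.AbP X) [Injective M] : IsWAcyc M := by
  intro V U v _ n
  haveI : Injective M.obj := Injective.injective_of_adjoint
    (sheafificationAdjunction (Scheme.ProEt.topology X) AddCommGrpCat.{u + 1}) M
  exact H18Cech.isZero_cechH_of_injective _ _ n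

open H18Cech in
theorem isWAcyc_sigma [∀ i, Injective (F i)] : IsWAcyc (∐ F) := by
  classical
  intro V U v hv p
  refine isZero_cechH_succ (single.{u + 1} v) _ fun x hx => ?_
  let Y := single.{u + 1} v
  haveI := (qcqs_pw hv (p + 1)).1
  obtain ⟨t, ht⟩ := exists_supp_sect F (pw.{u + 1} v (p + 1))
    ((Pi.π (val Y (∐ F).obj (p + 1)) fun _ => PUnit.unit).hom x)
  have hmd : ∀ {A B : ProEtS.AbP X} (φ : A ⟶ B) (n : ℕ) (y : C' Y A.obj n),
      (mapC Y φ.hom (n + 1)).hom ((d Y A.obj n).hom y) = (d Y B.obj n).hom ((mapC Y φ.hom n).hom y) :=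
    fun φ n y => (ConcreteCategory.congr_hom
      (((cechComplexFunctor Y).map (Functor.whiskerLeft (Over.forget U).op φ.hom)).comm n (n + 1)) y).symm
  have hy : ∀ i, ∃ y, (d Y (F i).obj p).hom y = (mapC Y (prj F i).hom (p + 1)).hom x := fun i =>
    exists_of_isZero_cechH_succ Y _ (isWAcyc_of_injective (F i) v hv p) _ (by
      rw [← hmd, hx, map_zero])
  choose y hy using hy
  refine ⟨∑ i ∈ t, (mapC Y (Sigma.ι F i).hom p).hom (y i), ?_⟩
  rw [map_sum]
  refine (Finset.sum_congr rfl fun i _ => (hmd (Sigma.ι F i) p (y i)).symm.trans (congrArg _ (hy i))).trans ?_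
  apply (Concrete.productEquiv (val Y (∐ F).obj (p + 1))).injective
  funext a
  obtain rfl : a = fun _ => PUnit.unit := funext fun _ => rfl
  rw [Concrete.productEquiv_apply_apply, Concrete.productEquiv_apply_apply, map_sum]
  refine Eq.trans ?_ ht
  refine Eq.trans ?_ (map_eT_apply F (sectF (pw.{u + 1} v (p + 1))) t _).symm
  refine Finset.sum_congr rfl fun i _ => ?_
  exact (π_mapC Y (Sigma.ι F i).hom _ _).trans (congrArg _ (π_mapC Y (prj F i).hom x _))

variable {F}

theorem surjective_sections_wacyc {S : ShortComplex (ProEtS.AbP X)} (hS : S.ShortExact) (h₁ : IsWAcyc S.X₁)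
    (U : X.ProEt) [CompactSpace U.left] [QuasiSeparatedSpace U.left] :
    Function.Surjective (S.g.hom.app (op U)) := by
  intro s
  obtain ⟨V, v, hv, hVa, hVw⟩ := S0714.result U
  have hsurj : Function.Surjective (S.g.hom.app (op V)) := by
    haveI := hS.epi_g
    haveI : Sheaf.IsLocallySurjective S.g := (Sheaf.isLocallySurjective_iff_epi' _ S.g).2 inferInstance
    let φ := (sheafCompose (Scheme.ProEt.topology X) (forget AddCommGrpCat.{u + 1})).map S.g
    haveI : Epi φ := (Sheaf.isLocallySurjective_iff_epi φ).1 ⟨fun {Z} z => Presheaf.imageSieve_mem _ S.g.hom z⟩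
    exact hVw _ _ φ inferInstance
  have hgen : Sieve.ofArrows (fun _ : PUnit.{u + 2} => V) (fun _ => v) ∈ Scheme.ProEt.topology X U := by
    rw [Sieve.ofArrows, Presieve.ofArrows_pUnit]
    exact hv
  have hfor : ∀ M : ProEtS.AbP X, Presieve.IsSheafFor (M.obj ⋙ forget AddCommGrpCat.{u + 1})
      (Presieve.ofArrows (fun i => (single.{u + 1} v i).left) fun i => (single.{u + 1} v i).hom) :=
    fun M => (Presieve.isSheafFor_iff_generate _).2 (((isSheaf_iff_isSheaf_of_type _ _).1
      ((Presheaf.isSheaf_iff_isSheaf_forget _ _ (forget _)).1 M.property)) _ hgen)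
  obtain ⟨r, hr⟩ := hsurj (S.X₃.obj.map v.op s)
  exact H18Cech.exists_lift_of_isZero (S := S.map (sheafToPresheaf _ _)) (single.{u + 1} v)
    (fun V => (sections_left_exact hS V).1) (fun V => (sections_left_exact hS V).2) (hfor S.X₂)
    (hfor S.X₃).isSeparatedFor (h₁ v ⟨‹_›, ‹_›, hVa, hVw, hv⟩ 0) s fun _ => ⟨r, hr⟩

theorem isWAcyc_X₃ {S : ShortComplex (ProEtS.AbP X)} (hS : S.ShortExact) (h₁ : IsWAcyc S.X₁)
    (h₂ : IsWAcyc S.X₂) : IsWAcyc S.X₃ := by
  intro V U v hv p
  have hT := H18Cech.shortExact_map (S := S.map (sheafToPresheaf _ _)) (single.{u + 1} v)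
    (fun V => (sections_left_exact hS V).1) (fun V => (sections_left_exact hS V).2)
    fun n a => by
      obtain rfl : a = fun _ => PUnit.unit := funext fun _ => rfl
      haveI := (qcqs_pw hv n).1
      haveI := (qcqs_pw hv n).2
      exact surjective_sections_wacyc hS h₁ _
  exact (hT.homology_exact₃ (p + 1) (p + 1 + 1) rfl).isZero_of_both_zeros
    ((h₂ v hv p).eq_of_src _ _) ((h₁ v hv (p + 1)).eq_of_tgt _ _)

variable [CompactSpace X] [QuasiSeparatedSpace X]

/-- The top object is terminal. -/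
noncomputable def topIsTerminal : IsTerminal (ProEtS.topP X) :=
  IsTerminal.ofUniqueHom (fun Z => MorphismProperty.Over.homMk Z.hom (Category.comp_id _) trivial)
    fun Z m => MorphismProperty.Over.Hom.ext ((Category.comp_id m.left).symm.trans (MorphismProperty.Over.w m))

theorem subsingleton_H_of_wacyc :
    ∀ (p : ℕ) (M : ProEtS.AbP X), IsWAcyc M → Subsingleton (ProEtS.HP X M (p + 1)) := by
  intro p
  induction p with
  | zero =>
    intro M hM
    let S := ShortComplex.mk (Injective.ι M) (cokernel.π (Injective.ι M)) (cokernel.condition _)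
    have hS : S.ShortExact := { exact := ShortComplex.exact_of_g_is_cokernel _ (cokernelIsCokernel _) }
    refine subsingleton_of_forall_eq 0 fun x => ?_
    obtain ⟨y, rfl⟩ := Abelian.Ext.covariant_sequence_exact₁ _ hS x (Abelian.Ext.eq_zero_of_injective _) rfl
    obtain ⟨φ, rfl⟩ := (Abelian.Ext.mk₀_bijective _ _).surjective y
    let hT := topIsTerminal (X := X)
    haveI : CompactSpace (ProEtS.topP X).left := ‹CompactSpace X›
    haveI : QuasiSeparatedSpace (ProEtS.topP X).left := ‹QuasiSeparatedSpace X›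
    obtain ⟨s, hs⟩ := surjective_sections_wacyc hS hM (ProEtS.topP X)
      (CategoryTheory.Sheaf.H.equiv₀ S.X₃ hT (Abelian.Ext.mk₀ φ))
    have h2 : CategoryTheory.Sheaf.H.map S.g 0 ((CategoryTheory.Sheaf.H.equiv₀ S.X₂ hT).symm s) =
        Abelian.Ext.mk₀ φ := by
      rw [CategoryTheory.Sheaf.H.equiv₀_symm_naturality, hs, AddEquiv.symm_apply_apply]
    rw [← h2, CategoryTheory.Sheaf.H.map_apply, Abelian.Ext.comp_assoc_of_second_deg_zero,
      hS.comp_extClass, Abelian.Ext.comp_zero]
  | succ p ih =>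
    intro M hM
    let S := ShortComplex.mk (Injective.ι M) (cokernel.π (Injective.ι M)) (cokernel.condition _)
    have hS : S.ShortExact := { exact := ShortComplex.exact_of_g_is_cokernel _ (cokernelIsCokernel _) }
    refine subsingleton_of_forall_eq 0 fun x => ?_
    obtain ⟨y, rfl⟩ := Abelian.Ext.covariant_sequence_exact₁ _ hS x (Abelian.Ext.eq_zero_of_injective _) rfl
    rw [(ih S.X₃ (isWAcyc_X₃ hS hM (isWAcyc_of_injective _))).elim y 0, Abelian.Ext.zero_comp]

theorem exists_supp_H : ∀ (n : ℕ) (F : ι → ProEtS.AbP X) (x : ProEtS.HP X (∐ F) n),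
    ∃ t, Sheaf.H.map (eT F t) n x = x := by
  intro n
  induction n with
  | zero =>
    intro F x
    haveI : CompactSpace (ProEtS.topP X).left := ‹CompactSpace X›
    obtain ⟨t, ht⟩ := exists_supp_sect F (ProEtS.topP X)
      (Sheaf.H.equiv₀ (∐ F) topIsTerminal x)
    refine ⟨t, (Sheaf.H.equiv₀ (∐ F) (topIsTerminal (X := X))).injective ?_⟩
    rw [← Sheaf.H.equiv₀_naturality]
    exact ht
  | succ n ih =>
    intro F x
    let I : ι → ProEtS.AbP X := fun i => Injective.under (F i)
    let Q : ι → ProEtS.AbP X := fun i => cokernel (Injective.ι (F i))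
    let S := ShortComplex.mk (Limits.Sigma.map fun i => Injective.ι (F i))
      (Limits.Sigma.map (g := Q) fun i => cokernel.π (Injective.ι (F i))) (Sigma.hom_ext _ _ fun i => by simp)
    have hS : S.ShortExact := by
      let T : ShortComplex (Discrete ι ⥤ ProEtS.AbP X) := ShortComplex.mk
        (Discrete.natTrans (F := Discrete.functor F) (G := Discrete.functor I) fun i => Injective.ι (F i.as))
        (Discrete.natTrans (F := Discrete.functor I) (G := Discrete.functor Q) fun i => cokernel.π (Injective.ι (F i.as)))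
        (NatTrans.ext (funext fun i => cokernel.condition (Injective.ι (F i.as))))
      haveI : AB4OfSize.{u} (ProEtS.AbP X) := AB4OfSize_shrink.{u, u + 1} (ProEtS.AbP X)
      haveI : ∀ k, Mono (T.f.app k) := fun k => inferInstanceAs (Mono (Injective.ι (F k.as)))
      haveI : ∀ k, Epi (T.g.app k) := fun k => inferInstanceAs (Epi (cokernel.π (Injective.ι (F k.as))))
      have hT : T.ShortExact :=
        { exact := exact_of_app T fun i =>
            ShortComplex.exact_of_g_is_cokernel _ (cokernelIsCokernel (Injective.ι (F i.as)))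
          mono_f := NatTrans.mono_of_mono_app _
          epi_g := NatTrans.epi_of_epi_app _ }
      exact hT.map_of_exact colim
    haveI : ∀ i, Injective (I i) := fun i => inferInstanceAs (Injective (Injective.under (F i)))
    obtain ⟨y, hy⟩ := Abelian.Ext.covariant_sequence_exact₁ _ hS x
      ((subsingleton_H_of_wacyc n _ (isWAcyc_sigma I)).elim _ _) rfl
    obtain ⟨t, ht⟩ := ih Q y
    refine ⟨t, ?_⟩
    let φ : S ⟶ S := ShortComplex.homMk (eT F t) (eT I t) (eT Q t) (eT_naturality F _ t)
      (eT_naturality I _ t)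
    subst hy
    change (Abelian.Ext.comp y hS.extClass rfl).comp (Abelian.Ext.mk₀ φ.τ₁) (add_zero _) = _
    rw [Abelian.Ext.comp_assoc_of_third_deg_zero, ShortComplex.ShortExact.extClass_naturality hS hS φ,
      ← Abelian.Ext.comp_assoc_of_second_deg_zero]
    exact congrArg (fun z => Abelian.Ext.comp z hS.extClass rfl) ht

theorem preservesColimitsOfShape_HPF (n : ℕ) (ι : Type u) :
    PreservesColimitsOfShape (Discrete ι) (ProEtS.HPF X n) := by
  refine ⟨fun {K} => ?_⟩
  let f : ι → ProEtS.AbP X := fun i => K.obj ⟨i⟩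
  let H := ProEtS.HPF X n
  haveI : H.Additive := inferInstanceAs ((Sheaf.functorH _ n).Additive)
  haveI : IsIso (sigmaComparison H f) := by
    refine (ConcreteCategory.isIso_iff_bijective _).2 ⟨?_, fun x => ?_⟩
    · refine (injective_iff_map_eq_zero (sigmaComparison H f).hom).2 fun z hz => ?_
      obtain ⟨t, ht⟩ : z ∈ suppSubgroup (fun i => H.obj (f i)) (𝟭 AddCommGrpCat.{u + 1}) := by
        have hz' : z ∈ ⨆ k, rangeι (colimit.cocone (Discrete.functor fun i => H.obj (f i))) k := by
          rw [iSup_range_eq_top (colimit.isColimit _)]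
          exact AddSubgroup.mem_top _
        refine AddSubgroup.iSup_induction (C := fun r => r ∈ suppSubgroup _ (𝟭 AddCommGrpCat.{u + 1})) _ hz'
          ?_ (zero_mem _) fun _ _ => add_mem
        rintro ⟨i⟩ _ ⟨y, rfl⟩
        exact mem_suppSubgroup_ι (fun i => H.obj (f i)) (𝟭 AddCommGrpCat.{u + 1}) i y
      have hprj : ∀ i, prj (fun i => H.obj (f i)) i = sigmaComparison H f ≫ H.map (prj f i) := fun i =>
        Sigma.hom_ext _ _ fun j => by
          rw [ι_comp_sigmaComparison_assoc, ← H.map_comp]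
          by_cases h : j = i
          · subst h
            rw [ι_prj_self, ι_prj_self, H.map_id]
          · rw [ι_prj_of_ne _ h, ι_prj_of_ne _ h, H.map_zero]
      refine ht.symm.trans ((map_eT_apply (fun i => H.obj (f i)) (𝟭 AddCommGrpCat.{u + 1}) t z).trans
        (Finset.sum_eq_zero fun i _ => ?_))
      show Sigma.ι (fun i => H.obj (f i)) i (prj (fun i => H.obj (f i)) i z) = 0
      rw [hprj, ConcreteCategory.comp_apply]
      erw [hz, map_zero, map_zero]
    · obtain ⟨t, ht⟩ := exists_supp_H n f x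
      refine ⟨∑ i ∈ t, Sigma.ι (fun i => H.obj (f i)) i (H.map (prj f i) x), ?_⟩
      refine (map_sum (sigmaComparison H f).hom _ t).trans (Eq.trans ?_ ht)
      refine Eq.trans ?_ (map_eT_apply f H t x).symm
      refine Finset.sum_congr rfl fun i _ => ?_
      exact ConcreteCategory.congr_hom (ι_comp_sigmaComparison H f i) _
  haveI : PreservesColimit (Discrete.functor (K.obj ∘ Discrete.mk)) H := PreservesCoproduct.of_iso_comparison H f
  exact preservesColimit_of_iso_diagram H (Discrete.natIsoFunctor (F := K)).symm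

end Groth.Agent.H1EpsS
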