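import Groth.Agent.H1EpsS.SheafifyLP
import Groth.Prelude.Def_ProEtS
import Mathlib.AlgebraicGeometry.AffineTransitionLimit

/-!
# The presheaf pullback from the etale site to the pro-etale site preserves affine limits
-/

set_option autoImplicit false
set_option backward.isDefEq.respectTransparency false

universe u

open CategoryTheory CategoryTheory.Limits AlgebraicGeometry Opposite

namespace Groth.Agent.H1EpsS

open H26ProEt (toSch)

variable {X : Scheme.{u}}

theorem flat_eps (X : Scheme.{u}) : RepresentablyFlat (ProEtS.eps X) := by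
  haveI : PreservesFiniteLimits (ProEtS.eps X ⋙ Scheme.ProEt.forget X) :=
    inferInstanceAs (PreservesFiniteLimits (MorphismProperty.Over.forget EtCoh.etaleMP.{u} ⊤ X))
  haveI : PreservesFiniteLimits (ProEtS.eps X) :=
    preservesFiniteLimits_of_reflects_of_preserves (ProEtS.eps X) (Scheme.ProEt.forget X)
  exact flat_of_preservesFiniteLimits _

attribute [local instance] flat_eps

/-- The forgetful functor of abelian groups preserves filtered colimits of large categories with
small hom sets. -/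
theorem forget_preservesColimitsOfShape {A : Type (u + 1)} [Category.{u} A] [IsFiltered A] :
    PreservesColimitsOfShape A (forget AddCommGrpCat.{u + 1}) := by
  haveI : IsFiltered (ULiftHom.{u + 1} A) := IsFiltered.of_equivalence ULiftHom.equiv
  exact preservesColimitsOfShape_of_equiv (ULiftHom.equiv (C := A)).symm (forget AddCommGrpCat.{u + 1})

variable (F : X.Etaleᵒᵖ ⥤ AddCommGrpCat.{u + 1})

/-- The presheaf pullback. -/
noncomputable abbrev preEps : X.ProEtᵒᵖ ⥤ AddCommGrpCat.{u + 1} := (ProEtS.eps X).op.lan.obj F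

/-- The unit of the presheaf pullback. -/
noncomputable abbrev preUnit : F ⟶ (ProEtS.eps X).op ⋙ preEps F := (ProEtS.eps X).op.lanUnit.app F

variable {F}

/-- The element of the presheaf pullback given by a map to an etale object and a section over it. -/
noncomputable def mk {Z : X.ProEt} {V : X.Etale} (a : Z ⟶ (ProEtS.eps X).obj V) (x : F.obj (op V)) :
    (preEps F).obj (op Z) :=
  (preEps F).map a.op ((preUnit F).app (op V) x)

theorem map_mk {Z Z' : X.ProEt} (q : Z' ⟶ Z) {V : X.Etale} (a : Z ⟶ (ProEtS.eps X).obj V)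
    (x : F.obj (op V)) : (preEps F).map q.op (mk a x) = mk (q ≫ a) x := by
  simp [mk]

theorem mk_map {Z : X.ProEt} {V V' : X.Etale} (h : V' ⟶ V) (a : Z ⟶ (ProEtS.eps X).obj V')
    (x : F.obj (op V)) : mk a (F.map h.op x) = mk (a ≫ (ProEtS.eps X).map h) x := by
  show (preEps F).map a.op _ = (preEps F).map (a ≫ (ProEtS.eps X).map h).op _
  rw [op_comp, Functor.map_comp, NatTrans.naturality_apply (preUnit F) h.op x]
  rfl

theorem exists_rep_and_eq (Z : X.ProEt) :
    (∀ r : (preEps F).obj (op Z), ∃ (V : X.Etale) (a : Z ⟶ (ProEtS.eps X).obj V) (x : F.obj (op V)), mk a x = r) ∧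
    ∀ {V : X.Etale} (a : Z ⟶ (ProEtS.eps X).obj V) (x y : F.obj (op V)), mk a x = mk a y →
      ∃ (V' : X.Etale) (h : V' ⟶ V) (a' : Z ⟶ (ProEtS.eps X).obj V'),
        a' ≫ (ProEtS.eps X).map h = a ∧ F.map h.op x = F.map h.op y := by
  haveI : IsFiltered (CostructuredArrow (ProEtS.eps X).op (op Z)) := inferInstance
  haveI := forget_preservesColimitsOfShape (A := CostructuredArrow (ProEtS.eps X).op (op Z))
  let hc := isColimitOfPreserves (forget AddCommGrpCat.{u + 1})
    ((ProEtS.eps X).op.isPointwiseLeftKanExtensionLeftKanExtensionUnit F (op Z))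
  refine ⟨fun r => ?_, fun {V} a x y h => ?_⟩
  · obtain ⟨j, x, hx⟩ := Types.jointly_surjective _ hc r
    exact ⟨j.left.unop, j.hom.unop, x, hx⟩
  · obtain ⟨j, g, hg⟩ := (Types.FilteredColimit.isColimit_eq_iff' hc
      (i := CostructuredArrow.mk (S := (ProEtS.eps X).op) (Y := op V) a.op) x y).1 h
    exact ⟨j.left.unop, g.left.unop, j.hom.unop, congrArg Quiver.Hom.unop (CostructuredArrow.w g), hg⟩

theorem exists_rep₂ {Z : X.ProEt} (r r' : (preEps F).obj (op Z)) :
    ∃ (V : X.Etale) (a : Z ⟶ (ProEtS.eps X).obj V) (x x' : F.obj (op V)), mk a x = r ∧ mk a x' = r' := by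
  obtain ⟨V₁, a₁, x₁, rfl⟩ := (exists_rep_and_eq Z).1 r
  obtain ⟨V₂, a₂, x₂, rfl⟩ := (exists_rep_and_eq Z).1 r'
  obtain ⟨j, g₁, g₂, -⟩ := IsFilteredOrEmpty.cocone_objs
    (CostructuredArrow.mk (S := (ProEtS.eps X).op) (Y := op V₁) a₁.op)
    (CostructuredArrow.mk (S := (ProEtS.eps X).op) (Y := op V₂) a₂.op)
  have w₁ : j.hom.unop ≫ (ProEtS.eps X).map g₁.left.unop = a₁ := congrArg Quiver.Hom.unop (CostructuredArrow.w g₁)
  have w₂ : j.hom.unop ≫ (ProEtS.eps X).map g₂.left.unop = a₂ := congrArg Quiver.Hom.unop (CostructuredArrow.w g₂)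
  exact ⟨j.left.unop, j.hom.unop, F.map g₁.left.unop.op x₁, F.map g₂.left.unop.op x₂,
    (mk_map g₁.left.unop j.hom.unop x₁).trans (congrArg (fun q => mk q x₁) w₁),
    (mk_map g₂.left.unop j.hom.unop x₂).trans (congrArg (fun q => mk q x₂) w₂)⟩

section Descend

variable {I : Type u} [SmallCategory I] [IsCofiltered I] (D : I ⥤ X.ProEt) (c : Cone D)
  (hc : IsSchLimit c) (haff : ∀ (i j : I) (f : i ⟶ j), IsAffineHom (D.map f).left)
  [∀ i, CompactSpace ↥(D.obj i).left] [∀ i, QuasiSeparatedSpace ↥(D.obj i).left]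

include hc haff

/-- A map to an etale object comes from a stage. -/
theorem exists_hom_stage {V : X.Etale} (a : c.pt ⟶ (ProEtS.eps X).obj V) :
    ∃ (j : I) (b : D.obj j ⟶ (ProEtS.eps X).obj V), c.π.app j ≫ b = a := by
  haveI : Etale V.hom := V.prop
  haveI : ∀ {i j : I} (f : i ⟶ j), IsAffineHom ((D ⋙ toSch X).map f) := fun f => haff _ _ f
  haveI : ∀ i, CompactSpace ↥((D ⋙ toSch X).obj i) := fun i => inferInstanceAs (CompactSpace ↥(D.obj i).left)
  haveI : ∀ i, QuasiSeparatedSpace ↥((D ⋙ toSch X).obj i) :=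
    fun i => inferInstanceAs (QuasiSeparatedSpace ↥(D.obj i).left)
  obtain ⟨j, g, hg, hg'⟩ := Scheme.exists_π_app_comp_eq_of_locallyOfFinitePresentation (D ⋙ toSch X)
    { app := fun i => (D.obj i).hom
      naturality := fun i j f => (MorphismProperty.Over.w (D.map f)).trans (Category.comp_id _).symm }
    V.hom ((toSch X).mapCone c) hc a.left (by
      ext i
      exact (MorphismProperty.Over.w (c.π.app i)).trans (MorphismProperty.Over.w a).symm)
  exact ⟨j, MorphismProperty.Over.homMk g hg' trivial, MorphismProperty.Over.Hom.ext hg⟩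

/-- Equalities of maps to etale objects descend to a stage. -/
theorem exists_hom_eq_stage {V : X.Etale} {i : I} (a b : D.obj i ⟶ (ProEtS.eps X).obj V)
    (h : c.π.app i ≫ a = c.π.app i ≫ b) : ∃ (k : I) (f : k ⟶ i), D.map f ≫ a = D.map f ≫ b := by
  haveI : Etale V.hom := V.prop
  haveI : ∀ {i j : I} (f : i ⟶ j), IsAffineHom ((D ⋙ toSch X).map f) := fun f => haff _ _ f
  haveI : ∀ i, CompactSpace ↥((D ⋙ toSch X).obj i) := fun i => inferInstanceAs (CompactSpace ↥(D.obj i).left)
  obtain ⟨k, f, hf⟩ := Scheme.exists_hom_comp_eq_comp_of_locallyOfFiniteType (D ⋙ toSch X)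
    { app := fun i => (D.obj i).hom
      naturality := fun i j f => (MorphismProperty.Over.w (D.map f)).trans (Category.comp_id _).symm }
    V.hom ((toSch X).mapCone c) hc a.left b.left (MorphismProperty.Over.w a).symm
    (MorphismProperty.Over.w b).symm (congrArg (fun q => q.left) h)
  exact ⟨k, f, MorphismProperty.Over.Hom.ext hf⟩

theorem preEps_descends (F : X.Etaleᵒᵖ ⥤ AddCommGrpCat.{u + 1}) :
    (∀ x : (preEps F).obj (op c.pt), Lifts (preEps F ⋙ forget _) c x) ∧
    ∀ (i : I) (y y' : (preEps F).obj (op (D.obj i))),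
      (preEps F).map (c.π.app i).op y = (preEps F).map (c.π.app i).op y' →
      EvEq D (preEps F ⋙ forget _) y y' := by
  refine ⟨fun r => ?_, fun i y y' h => ?_⟩
  · obtain ⟨V, a, x, rfl⟩ := (exists_rep_and_eq c.pt).1 r
    obtain ⟨j, b, rfl⟩ := exists_hom_stage D c hc haff a
    exact ⟨j, mk b x, map_mk _ _ _⟩
  · obtain ⟨V, a, x, x', rfl, rfl⟩ := exists_rep₂ y y'
    rw [map_mk, map_mk] at h
    obtain ⟨V', g, a', hga, hxx⟩ := (exists_rep_and_eq c.pt).2 _ x x' h
    obtain ⟨j, b, hb⟩ := exists_hom_stage D c hc haff a'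
    obtain ⟨m, p, q, -⟩ := IsCofilteredOrEmpty.cone_objs i j
    obtain ⟨k, f, hf⟩ := exists_hom_eq_stage D c hc haff ((D.map q ≫ b) ≫ (ProEtS.eps X).map g) (D.map p ≫ a) (by
      simp only [← Category.assoc, c.w, hb, hga])
    refine ⟨k, f ≫ p, ?_⟩
    show (preEps F).map (D.map (f ≫ p)).op (mk a x) = (preEps F).map (D.map (f ≫ p)).op (mk a x')
    rw [map_mk, map_mk, D.map_comp, Category.assoc, ← hf, ← Category.assoc, ← mk_map, ← mk_map, hxx]

end Descend

theorem isLP_preEps (F : X.Etaleᵒᵖ ⥤ AddCommGrpCat.{u + 1}) : IsLP (preEps F ⋙ forget _) := by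
  intro I _ _ D c hc hD hT
  haveI := fun i => hD i
  exact preEps_descends D c hc (fun i j f => isAffineHom_of_isAffine _) F

end Groth.Agent.H1EpsS
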