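import Mathlib.CategoryTheory.Sites.Sheaf
import Mathlib.CategoryTheory.Filtered.Final
import Mathlib.CategoryTheory.Limits.Constructions.Over.Connected
import Mathlib.CategoryTheory.Limits.Types.Filtered
import Mathlib.Data.Finite.Prod

/-!
# Descending equalities and sections along cofiltered systems, locally on one stage
-/

set_option autoImplicit false
set_option backward.isDefEq.respectTransparency false

universe w v u t

open CategoryTheory CategoryTheory.Limits Opposite

namespace Groth.Agent.H1EpsS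

variable {C : Type u} [Category.{v} C] [HasPullbacks C] {J : GrothendieckTopology C}
  {I : Type w} [Category.{w} I] (D : I ⥤ C)

section Defs

variable (X : Cᵒᵖ ⥤ Type t)

/-- Two sections at a stage agree at a later stage. -/
def EvEq {i : I} (y y' : X.obj (op (D.obj i))) : Prop :=
  ∃ (j : I) (f : j ⟶ i), X.map (D.map f).op y = X.map (D.map f).op y'

variable {D}

/-- A section over the cone point comes from a stage. -/
def Lifts (c : Cone D) (x : X.obj (op c.pt)) : Prop :=
  ∃ (j : I) (z : X.obj (op (D.obj j))), X.map (c.π.app j).op z = x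

variable {X}

theorem EvEq.of_map {i j : I} (f : j ⟶ i) {y y' : X.obj (op (D.obj i))}
    (h : EvEq D X (X.map (D.map f).op y) (X.map (D.map f).op y')) : EvEq D X y y' := by
  obtain ⟨k, g, hg⟩ := h
  refine ⟨k, g ≫ f, ?_⟩
  rwa [D.map_comp, op_comp, Functor.map_comp_apply, Functor.map_comp_apply]

end Defs

variable {i : I} {W : C} (w : W ⟶ D.obj i)

/-- The system over a piece of a stage. -/
noncomputable def pieceDiag : Over i ⥤ C where
  obj j := pullback w (D.map j.hom)
  map {j k} φ := pullback.map _ _ _ _ (𝟙 _) (D.map φ.left) (𝟙 _) (by simp)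
    (by rw [Category.comp_id, ← D.map_comp, Over.w φ])
  map_id j := by apply pullback.hom_ext <;> simp
  map_comp φ ψ := by apply pullback.hom_ext <;> simp

/-- The map of the system to the piece. -/
noncomputable def pFst (j : Over i) : (pieceDiag D w).obj j ⟶ W := pullback.fst w (D.map j.hom)

/-- The map of the system to the stages. -/
noncomputable def pSnd (j : Over i) : (pieceDiag D w).obj j ⟶ D.obj j.left := pullback.snd w (D.map j.hom)

/-- The map of the system to the stage of the piece. -/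
noncomputable def pTop : (pieceDiag D w).obj (Over.mk (𝟙 i)) ⟶ D.obj i := pSnd D w (Over.mk (𝟙 i))

theorem isPullback_piece (j : Over i) : IsPullback (pFst D w j) (pSnd D w j) w (D.map j.hom) :=
  IsPullback.of_hasPullback _ _

theorem pFst_comp : pFst D w (Over.mk (𝟙 i)) ≫ w = pTop D w := by
  rw [(isPullback_piece D w _).w]
  exact (congrArg (pSnd D w _ ≫ ·) (D.map_id i)).trans (Category.comp_id _)

variable {D w} in
theorem piece_ext {Z : C} {j : Over i} {a b : Z ⟶ (pieceDiag D w).obj j}
    (h₁ : a ≫ pFst D w j = b ≫ pFst D w j) (h₂ : a ≫ pSnd D w j = b ≫ pSnd D w j) : a = b :=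
  pullback.hom_ext h₁ h₂

@[reassoc]
theorem map_pFst {j k : Over i} (φ : j ⟶ k) : (pieceDiag D w).map φ ≫ pFst D w k = pFst D w j :=
  (pullback.lift_fst _ _ _).trans (Category.comp_id _)

@[reassoc]
theorem map_pSnd {j k : Over i} (φ : j ⟶ k) :
    (pieceDiag D w).map φ ≫ pSnd D w k = pSnd D w j ≫ D.map φ.left :=
  pullback.lift_snd _ _ _

@[reassoc]
theorem map_pTop {j : Over i} (φ : j ⟶ Over.mk (𝟙 i)) :
    (pieceDiag D w).map φ ≫ pTop D w = pSnd D w j ≫ D.map j.hom := by
  refine (map_pSnd D w φ).trans ?_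
  have h : φ.left = j.hom := by simpa using Over.w φ
  rw [h]

variable {D} (c : Cone D)

/-- The piece of the cone point. -/
noncomputable def piecePt : C := pullback w (c.π.app i)

/-- The map of the piece of the cone point to the piece. -/
noncomputable def ptFst : piecePt w c ⟶ W := pullback.fst w (c.π.app i)

/-- The map of the piece of the cone point to the cone point. -/
noncomputable def ptSnd : piecePt w c ⟶ c.pt := pullback.snd w (c.π.app i)

theorem isPullback_piecePt : IsPullback (ptFst w c) (ptSnd w c) w (c.π.app i) :=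
  IsPullback.of_hasPullback _ _

/-- The projections of the piece of the cone point. -/
noncomputable def ptπ (j : Over i) : piecePt w c ⟶ (pieceDiag D w).obj j :=
  (isPullback_piece D w j).lift (ptFst w c) (ptSnd w c ≫ c.π.app j.left)
    (by rw [Category.assoc, c.w]; exact (isPullback_piecePt w c).w)

@[reassoc (attr := simp)]
theorem ptπ_fst (j : Over i) : ptπ w c j ≫ pFst D w j = ptFst w c := (isPullback_piece D w j).lift_fst _ _ _

@[reassoc (attr := simp)]
theorem ptπ_snd (j : Over i) : ptπ w c j ≫ pSnd D w j = ptSnd w c ≫ c.π.app j.left :=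
  (isPullback_piece D w j).lift_snd _ _ _

@[reassoc]
theorem ptπ_map {j k : Over i} (φ : j ⟶ k) : ptπ w c j ≫ (pieceDiag D w).map φ = ptπ w c k := by
  apply piece_ext
  · rw [Category.assoc, map_pFst, ptπ_fst, ptπ_fst]
  · rw [Category.assoc, map_pSnd, ptπ_snd_assoc, ptπ_snd, c.w]

theorem ptπ_pTop : ptπ w c (Over.mk (𝟙 i)) ≫ pTop D w = ptSnd w c ≫ c.π.app i := ptπ_snd w c _

/-- The piece of the cone point as a cone. -/
noncomputable abbrev pieceCone : Cone (pieceDiag D w) where
  pt := piecePt w c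
  π :=
    { app := ptπ w c
      naturality := fun j k φ => (Category.id_comp _).trans (ptπ_map w c φ).symm }

theorem isPullback_ptπ (j : Over i) :
    IsPullback (ptπ w c j) (ptSnd w c) (pSnd D w j) (c.π.app j.left) := by
  refine IsPullback.of_right (h₁₂ := pFst D w j) (v₁₃ := w) (h₂₂ := D.map j.hom) ?_
    (ptπ_snd w c j) (isPullback_piece D w j)
  rw [ptπ_fst, c.w]
  exact isPullback_piecePt w c

section PieceMap

variable {w} {W' : C} {w' : W' ⟶ D.obj i} (φ : W' ⟶ W) (h : φ ≫ w = w') (D)

/-- The map between systems over pieces. -/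
noncomputable def pieceMap (j : Over i) : (pieceDiag D w').obj j ⟶ (pieceDiag D w).obj j :=
  (isPullback_piece D w j).lift (pFst D w' j ≫ φ) (pSnd D w' j)
    (by rw [Category.assoc, h]; exact (isPullback_piece D w' j).w)

/-- The map between pieces of the cone point. -/
noncomputable def pieceMapPt : piecePt w' c ⟶ piecePt w c :=
  (isPullback_piecePt w c).lift (ptFst w' c ≫ φ) (ptSnd w' c)
    (by rw [Category.assoc, h]; exact (isPullback_piecePt w' c).w)

@[reassoc (attr := simp)]
theorem pieceMap_fst (j : Over i) : pieceMap D φ h j ≫ pFst D w j = pFst D w' j ≫ φ :=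
  (isPullback_piece D w j).lift_fst _ _ _

@[reassoc (attr := simp)]
theorem pieceMap_snd (j : Over i) : pieceMap D φ h j ≫ pSnd D w j = pSnd D w' j :=
  (isPullback_piece D w j).lift_snd _ _ _

@[reassoc (attr := simp)]
theorem pieceMapPt_fst : pieceMapPt D c φ h ≫ ptFst w c = ptFst w' c ≫ φ :=
  (isPullback_piecePt w c).lift_fst _ _ _

@[reassoc (attr := simp)]
theorem pieceMapPt_snd : pieceMapPt D c φ h ≫ ptSnd w c = ptSnd w' c :=
  (isPullback_piecePt w c).lift_snd _ _ _

theorem pieceMap_naturality {j k : Over i} (f : j ⟶ k) :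
    (pieceDiag D w').map f ≫ pieceMap D φ h k = pieceMap D φ h j ≫ (pieceDiag D w).map f := by
  apply piece_ext
  · rw [Category.assoc, Category.assoc, pieceMap_fst, map_pFst, pieceMap_fst, map_pFst_assoc]
  · rw [Category.assoc, Category.assoc, pieceMap_snd, map_pSnd, map_pSnd, pieceMap_snd_assoc]

theorem pieceMap_π (j : Over i) : ptπ w' c j ≫ pieceMap D φ h j = pieceMapPt D c φ h ≫ ptπ w c j := by
  apply piece_ext <;> simp

end PieceMap

section Local

variable {κ : Type*} {V : κ → C} {g : ∀ k, V k ⟶ D.obj i} (hg : Sieve.ofArrows V g ∈ J (D.obj i))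

include hg

theorem pSnd_mem (m : Over i) :
    Sieve.ofArrows (fun k => (pieceDiag D (g k)).obj m) (fun k => pSnd D (g k) m) ∈ J (D.obj m.left) := by
  refine J.superset_covering ?_ (J.pullback_stable (D.map m.hom) hg)
  rintro Z h ⟨_, a, _, ⟨k⟩, e⟩
  exact ⟨_, (isPullback_piece D (g k) m).lift a h e, _, ⟨k⟩, (isPullback_piece D (g k) m).lift_snd _ _ _⟩

theorem ptSnd_mem : Sieve.ofArrows (fun k => piecePt (g k) c) (fun k => ptSnd (g k) c) ∈ J c.pt := by
  refine J.superset_covering ?_ (J.pullback_stable (c.π.app i) hg)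
  rintro Z h ⟨_, a, _, ⟨k⟩, e⟩
  exact ⟨_, (isPullback_piecePt (g k) c).lift a h e, _, ⟨k⟩, (isPullback_piecePt (g k) c).lift_snd _ _ _⟩

end Local

theorem ext_of_cover {X : Cᵒᵖ ⥤ Type t} (hX : Presieve.IsSheaf J X) {B : C} {κ : Type*} {V : κ → C}
    {g : ∀ k, V k ⟶ B} (hg : Sieve.ofArrows V g ∈ J B) {y y' : X.obj (op B)}
    (h : ∀ k, X.map (g k).op y = X.map (g k).op y') : y = y' := by
  refine (hX _ hg).isSeparatedFor.ext ?_
  rintro Z q ⟨_, l, _, ⟨k⟩, rfl⟩
  rw [op_comp, Functor.map_comp_apply, Functor.map_comp_apply, h k]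

theorem exists_glue {X : Cᵒᵖ ⥤ Type t} (hX : Presieve.IsSheaf J X) {B : C} {κ : Type*} {V : κ → C}
    {g : ∀ k, V k ⟶ B} (hg : Sieve.ofArrows V g ∈ J B) (x : ∀ k, X.obj (op (V k)))
    (h : ∀ k l, X.map (pullback.fst (g k) (g l)).op (x k) = X.map (pullback.snd (g k) (g l)).op (x l)) :
    ∃ z : X.obj (op B), ∀ k, X.map (g k).op z = x k := by
  have hsh := (Presieve.isSheafFor_iff_generate _).2 (hX _ hg)
  obtain ⟨z, hz, -⟩ := (Presieve.isSheafFor_arrows_iff _ _).1 hsh x fun k l Z a b hab => by
    rw [← pullback.lift_fst a b hab, op_comp, Functor.map_comp_apply, h k l, ← Functor.map_comp_apply,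
      ← op_comp, pullback.lift_snd]
  exact ⟨z, hz⟩

variable [IsCofiltered I] {X : Cᵒᵖ ⥤ Type t} (hX : Presieve.IsSheaf J X)
  {κ : Type*} [Finite κ] {V : κ → C} {g : ∀ k, V k ⟶ D.obj i} (hg : Sieve.ofArrows V g ∈ J (D.obj i))

include hX hg

/-- Agreeing at a later stage is local on a stage. -/
theorem evEq_of_cover {y y' : X.obj (op (D.obj i))}
    (h : ∀ k, EvEq (pieceDiag D (g k)) X (X.map (pTop D (g k)).op y) (X.map (pTop D (g k)).op y')) :
    EvEq D X y y' := by
  choose j f hf using h
  classical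
  cases nonempty_fintype κ
  obtain ⟨m, hm⟩ := IsCofiltered.inf_objs_exists (Finset.univ.image j)
  let e : ∀ k, m ⟶ j k := fun k => (hm (Finset.mem_image_of_mem j (Finset.mem_univ k))).some
  refine ⟨m.left, m.hom, ext_of_cover hX (pSnd_mem hg m) fun k => ?_⟩
  have h' := congrArg (X.map ((pieceDiag D (g k)).map (e k)).op) (hf k)
  simp only [← Functor.map_comp_apply, ← op_comp] at h' ⊢
  simp only [← Functor.map_comp_assoc, map_pTop, Category.assoc, map_pSnd_assoc, ← Functor.map_comp, Over.w] at h'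
  exact h'

/-- Coming from a stage is local on a stage, given descent of equalities on the overlaps. -/
theorem lifts_of_cover
    (hinj : ∀ (k l : κ) (m : Over i)
      (y y' : X.obj (op ((pieceDiag D (pullback.fst (g k) (g l) ≫ g k)).obj m))),
      X.map (ptπ (pullback.fst (g k) (g l) ≫ g k) c m).op y =
        X.map (ptπ (pullback.fst (g k) (g l) ≫ g k) c m).op y' →
      EvEq (pieceDiag D (pullback.fst (g k) (g l) ≫ g k)) X y y')
    {x : X.obj (op c.pt)}
    (h : ∀ k, Lifts X (pieceCone (g k) c) (X.map (ptSnd (g k) c).op x)) :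
    Lifts X c x := by
  choose j z hz using h
  classical
  cases nonempty_fintype κ
  obtain ⟨m, hm⟩ := IsCofiltered.inf_objs_exists (Finset.univ.image j)
  let e : ∀ k, m ⟶ j k := fun k => (hm (Finset.mem_image_of_mem j (Finset.mem_univ k))).some
  obtain ⟨v₀, hv₀⟩ : ∃ v₀ : ∀ k, X.obj (op ((pieceDiag D (g k)).obj m)),
      ∀ k, X.map (ptπ (g k) c m).op (v₀ k) = X.map (ptSnd (g k) c).op x :=
    ⟨fun k => X.map ((pieceDiag D (g k)).map (e k)).op (z k), fun k => by
      rw [← Functor.map_comp_apply, ← op_comp, ptπ_map]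
      exact hz k⟩
  have hov : ∀ kl : κ × κ, EvEq (pieceDiag D (pullback.fst (g kl.1) (g kl.2) ≫ g kl.1)) X (i := m)
      (X.map (pieceMap D (pullback.fst (g kl.1) (g kl.2)) rfl m).op (v₀ kl.1))
      (X.map (pieceMap D (pullback.snd (g kl.1) (g kl.2)) pullback.condition.symm m).op (v₀ kl.2)) := fun kl => by
    refine hinj kl.1 kl.2 m _ _ ?_
    simp only [← Functor.map_comp_apply, ← op_comp, pieceMap_π D c]
    simp only [op_comp, Functor.map_comp_apply, hv₀]
    simp only [← Functor.map_comp_apply, ← op_comp, pieceMapPt_snd]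
  choose n q hq using hov
  obtain ⟨p, p', e', he'⟩ := IsCofiltered.wideCospan q
  obtain ⟨v, hv⟩ : ∃ v : ∀ k, X.obj (op ((pieceDiag D (g k)).obj p)),
      ∀ k, v k = X.map ((pieceDiag D (g k)).map p').op (v₀ k) := ⟨_, fun _ => rfl⟩
  obtain ⟨z₀, hz₀⟩ := exists_glue hX (pSnd_mem hg p) v fun k l => by
    let q₁ : pullback (pSnd D (g k) p) (pSnd D (g l) p) ⟶ (pieceDiag D (g k)).obj p := pullback.fst _ _
    let q₂ : pullback (pSnd D (g k) p) (pSnd D (g l) p) ⟶ (pieceDiag D (g l)).obj p := pullback.snd _ _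
    have hqq : q₁ ≫ pSnd D (g k) p = q₂ ≫ pSnd D (g l) p := pullback.condition
    have hq' : (q₁ ≫ pFst D (g k) p) ≫ g k = (q₂ ≫ pFst D (g l) p) ≫ g l := by
      rw [Category.assoc, (isPullback_piece D (g k) p).w, reassoc_of% hqq, ← (isPullback_piece D (g l) p).w,
        Category.assoc]
    let r := (isPullback_piece D (pullback.fst (g k) (g l) ≫ g k) p).lift
      (pullback.lift (q₁ ≫ pFst D (g k) p) (q₂ ≫ pFst D (g l) p) hq') (q₁ ≫ pSnd D (g k) p)
      (by rw [pullback.lift_fst_assoc, Category.assoc, Category.assoc, (isPullback_piece D (g k) p).w])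
    have hr₁ : r ≫ pieceMap D (pullback.fst (g k) (g l)) rfl p = q₁ := by
      apply piece_ext <;> simp [r]
    have hr₂ : r ≫ pieceMap D (pullback.snd (g k) (g l)) pullback.condition.symm p = q₂ := by
      apply piece_ext <;> simp [r, hqq]
    change X.map q₁.op (v k) = X.map q₂.op (v l)
    have h' := congrArg (X.map ((pieceDiag D _).map (e' (k, l))).op) (hq (k, l))
    simp only [← Functor.map_comp_apply, ← op_comp, ← Functor.map_comp_assoc, he'] at h'
    simp only [pieceMap_naturality] at h'
    have h'' := congrArg (X.map r.op) h'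
    simp only [← Functor.map_comp_apply, ← op_comp, reassoc_of% hr₁, reassoc_of% hr₂] at h''
    rw [hv, hv, ← Functor.map_comp_apply, ← Functor.map_comp_apply, ← op_comp, ← op_comp]
    exact h''
  refine ⟨p.left, z₀, ext_of_cover hX (ptSnd_mem c hg) fun k => ?_⟩
  rw [← hv₀ k, ← ptπ_map (g k) c p', op_comp, Functor.map_comp_apply, ← hv, ← hz₀ k]
  erw [← Functor.map_comp_apply, ← Functor.map_comp_apply, ← op_comp, ← op_comp]
  exact congrArg (fun q => X.map (Quiver.Hom.op q) z₀) (ptπ_snd (g k) c p).symm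

end Groth.Agent.H1EpsS
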