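import Groth.Agent.H1EpsS.Acyclic
import Groth.Agent.H1EpsS.Qcqs

/-!
# Cech vanishing on limits of quasi-compact quasi-separated etale objects
-/

set_option autoImplicit false
set_option backward.isDefEq.respectTransparency false
set_option linter.style.haveILetI false

universe u

open CategoryTheory CategoryTheory.Limits AlgebraicGeometry Opposite

attribute [local instance] IsCofiltered.isConnected CategoryTheory.isConnected_of_hasTerminal

namespace Groth.Agent.H1EpsS

open H26ProEt (toSch)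

variable {X : Scheme.{u}}

theorem qc_qs_pwHom {V U : X.ProEt} (g : V ⟶ U) [QuasiCompact g.left] [QuasiSeparated g.left] (n : ℕ) :
    QuasiCompact (pwHom.{u + 1} g n).left ∧ QuasiSeparated (pwHom.{u + 1} g n).left := by
  cases n with
  | zero =>
    obtain ⟨e, he⟩ := exists_iso_pw_zero g
    rw [← he]
    haveI : IsIso e.hom.left := ((toSch X).mapIso e).isIso_hom
    exact ⟨inferInstanceAs (QuasiCompact (e.hom.left ≫ g.left)),
      inferInstanceAs (QuasiSeparated (e.hom.left ≫ g.left))⟩
  | succ n =>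
    obtain ⟨h₁, h₂⟩ := qc_qs_pwHom g n
    obtain ⟨e, he⟩ := exists_iso_pw_succ g n
    rw [← he]
    haveI : IsIso e.hom.left := ((toSch X).mapIso e).isIso_hom
    haveI : QuasiCompact (pullback.snd (pwHom.{u + 1} g n) g).left :=
      MorphismProperty.of_isPullback (P := @QuasiCompact) (isPullback_left (pwHom.{u + 1} g n) g) h₁
    haveI : QuasiSeparated (pullback.snd (pwHom.{u + 1} g n) g).left :=
      MorphismProperty.of_isPullback (P := @QuasiSeparated) (isPullback_left (pwHom.{u + 1} g n) g) h₂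
    exact ⟨inferInstanceAs (QuasiCompact (e.hom.left ≫ (pullback.snd (pwHom.{u + 1} g n) g).left ≫ g.left)),
      inferInstanceAs (QuasiSeparated (e.hom.left ≫ (pullback.snd (pwHom.{u + 1} g n) g).left ≫ g.left))⟩

theorem isPullback_pwMap {V U V' U' : X.ProEt} {g : V ⟶ U} {g' : V' ⟶ U'} {a : V' ⟶ V} {b : U' ⟶ U}
    (h : IsPullback a g' g b) (n : ℕ) :
    IsPullback (pwMap.{u + 1} a b h.w n) (pwHom.{u + 1} g' n) (pwHom.{u + 1} g n) b := by
  have hex : ∀ s : PullbackCone (pwHom.{u + 1} g n) b, ∃ l : s.pt ⟶ pw.{u + 1} g' n,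
      l ≫ pwMap a b h.w n = s.fst ∧ l ≫ pwHom g' n = s.snd := by
    intro s
    let m : Fin (n + 1) → (s.pt ⟶ V') := fun k => h.lift (s.fst ≫ pwProj g k) s.snd
      (by rw [Category.assoc, pwProj_comp]; exact s.condition)
    obtain ⟨l, hl, hlk⟩ := exists_pwLift.{u + 1} g' (h := s.snd) (fun k : Fin (n + 1) =>
      ⟨⟨PUnit.unit, m k⟩, h.lift_snd _ _ _⟩)
    refine ⟨l, pw_hom_ext g fun k => ?_, hl⟩
    rw [Category.assoc, pwMap_proj, ← Category.assoc, hlk]
    exact h.lift_fst _ _ _
  choose l hl₁ hl₂ using hex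
  refine IsPullback.of_isLimit' ⟨pwMap_hom a b h.w n⟩ (PullbackCone.IsLimit.mk _ l hl₁ hl₂ fun s m h₁ h₂ => ?_)
  refine pw_hom_ext g' fun k => h.hom_ext ?_ ?_
  · rw [Category.assoc, Category.assoc, ← pwMap_proj a b h.w k, ← Category.assoc, ← Category.assoc, h₁, hl₁]
  · rw [Category.assoc, Category.assoc, pwProj_comp, h₂, hl₂]

section Cov

variable {I : Type u} [SmallCategory I] [IsCofiltered I] {D : I ⥤ X.ProEt} {c : Cone D} {i : I} {W : X.ProEt}
  (g : W ⟶ D.obj i)

/-- The structure maps of the system over a piece. -/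
noncomputable def pieceNat : pieceDiag D g ⟶ Over.forget i ⋙ D where
  app := pSnd D g
  naturality _ _ φ := map_pSnd D g φ

variable (hc : IsSchLimit c) (hD : IsQcqsSys D) [QuasiCompact g.left] [QuasiSeparated g.left]

include hc hD

theorem isQcqsSys_pwDiag (n : ℕ) : IsQcqsSys (pwDiag (pieceNat g) n) where
  aff j k φ := by
    have hpb : IsPullback ((pieceDiag D g).map φ) (pSnd D g j) (pSnd D g k) (D.map φ.left) := by
      refine IsPullback.of_right (h₁₂ := pFst D g k) (v₁₃ := g) (h₂₂ := D.map k.hom) ?_ (map_pSnd D g φ)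
        (isPullback_piece D g k)
      rw [map_pFst, ← D.map_comp, Over.w φ]
      exact isPullback_piece D g j
    exact MorphismProperty.of_isPullback (P := @IsAffineHom)
      ((isPullback_pwMap hpb n).map (toSch X)).flip (hD.aff φ.left)
  qc j := by
    haveI : QuasiCompact (pSnd D g j).left :=
      MorphismProperty.of_isPullback (P := @QuasiCompact) (isPullback_left g (D.map j.hom)) ‹_›
    haveI : QuasiSeparated (pSnd D g j).left :=
      MorphismProperty.of_isPullback (P := @QuasiSeparated) (isPullback_left g (D.map j.hom)) ‹_›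
    haveI : QuasiCompact (pwHom.{u + 1} (pSnd D g j) n).left := (qc_qs_pwHom _ n).1
    haveI := hD.qc j.left
    exact QuasiCompact.compactSpace_of_compactSpace (pwHom.{u + 1} (pSnd D g j) n).left
  qs j := by
    haveI : QuasiCompact (pSnd D g j).left :=
      MorphismProperty.of_isPullback (P := @QuasiCompact) (isPullback_left g (D.map j.hom)) ‹_›
    haveI : QuasiSeparated (pSnd D g j).left :=
      MorphismProperty.of_isPullback (P := @QuasiSeparated) (isPullback_left g (D.map j.hom)) ‹_›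
    haveI : QuasiSeparated (pwHom.{u + 1} (pSnd D g j) n).left := (qc_qs_pwHom _ n).2
    haveI := hD.qs j.left
    exact quasiSeparatedSpace_of_quasiSeparated (pwHom.{u + 1} (pSnd D g j) n).left

end Cov

/-- A limit of quasi-compact quasi-separated etale objects. -/
def QGood (U : X.ProEt) : Prop :=
  ∃ (I : Type u) (_ : SmallCategory I) (_ : IsCofiltered I) (D : I ⥤ X.ProEt) (π : (Functor.const I).obj U ⟶ D),
    Nonempty (IsSchLimit (Cone.mk U π)) ∧ IsQcqsSys D ∧ ∀ i, Etale (D.obj i).hom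

/-- A covering obtained from an etale covering of a stage by base change. -/
def QCov {V U : X.ProEt} (v : V ⟶ U) : Prop :=
  ∃ (I : Type u) (_ : SmallCategory I) (_ : IsCofiltered I) (D : I ⥤ X.ProEt) (c : Cone D) (i : I)
    (W : X.ProEt) (g : W ⟶ D.obj i) (hV : V = piecePt g c) (hU : U = c.pt),
    Nonempty (IsSchLimit c) ∧ IsQcqsSys D ∧ (∀ j, Etale (D.obj j).hom) ∧ Etale W.hom ∧ IsAffine W.left ∧
      Surjective g.left ∧ eqToHom hV ≫ ptSnd g c = v ≫ eqToHom hU

theorem etale_of_etale_hom {A B : X.ProEt} (f : A ⟶ B) (hA : Etale A.hom) (hB : Etale B.hom) :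
    Etale f.left := by
  haveI := hB
  haveI : Etale (f.left ≫ B.hom) := by rw [MorphismProperty.Over.w f]; exact hA
  exact Etale.of_comp f.left B.hom

theorem exists_qcov {U : X.ProEt} (hU : QGood U) : ∃ (V : X.ProEt) (v : V ⟶ U), QCov v := by
  obtain ⟨I, _, _, D, π, ⟨hc⟩, hD, het⟩ := hU
  obtain ⟨i⟩ := (IsCofiltered.nonempty : Nonempty I)
  haveI := hD.qc i
  haveI := het i
  let 𝒰 := (D.obj i).left.affineCover.finiteSubcover
  haveI : ∀ k, IsAffine (𝒰.X k) := fun k => inferInstanceAs (IsAffine ((D.obj i).left.affineCover.finiteSubcover.X _))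
  let d : (∐ 𝒰.X) ⟶ (D.obj i).left := Sigma.desc 𝒰.f
  haveI hd : Etale d := IsZariskiLocalAtSource.sigmaDesc (P := @Etale) fun k => inferInstance
  haveI : Surjective d := ⟨fun b => by
    obtain ⟨k, y, hy⟩ := 𝒰.exists_eq b
    refine ⟨(Sigma.ι 𝒰.X k) y, ?_⟩
    rw [← hy, ← Scheme.Hom.comp_apply, Sigma.ι_desc]⟩
  haveI : WeaklyEtale (d ≫ (D.obj i).hom) := inferInstance
  let W : X.ProEt := Scheme.ProEt.mk (d ≫ (D.obj i).hom)
  let g : W ⟶ D.obj i := MorphismProperty.Over.homMk d rfl trivial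
  exact ⟨piecePt g (Cone.mk U π), ptSnd g (Cone.mk U π), I, inferInstance, inferInstance, D, Cone.mk U π, i,
    W, g, rfl, rfl, ⟨hc⟩, hD, het, inferInstanceAs (Etale (d ≫ (D.obj i).hom)),
    inferInstanceAs (IsAffine (∐ 𝒰.X)), inferInstanceAs (Surjective d), by simp⟩

theorem QCov.mem_topology {V U : X.ProEt} {v : V ⟶ U} (hv : QCov v) :
    Sieve.ofArrows (fun _ : PUnit.{u + 2} => V) (fun _ => v) ∈ Scheme.ProEt.topology X U := by
  obtain ⟨I, _, _, D, c, i, W, g, rfl, rfl, -, -, het, hWe, -, hs, hv'⟩ := hv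
  simp only [eqToHom_refl, Category.id_comp, Category.comp_id] at hv'
  subst hv'
  haveI := hs
  exact etTop_le _ (ptSnd_mem c (g := fun _ : PUnit.{u + 2} => g)
    (ofArrows_mem _ (fun _ => etale_of_etale_hom g hWe (het i)) fun b => ⟨⟨⟩, g.left.surjective b⟩))

section Eps

variable [ProEtS.EpsCont X] (G : EtCoh.Ab X) [Injective G]

theorem QCov.van_qgood_good {V U : X.ProEt} {v : V ⟶ U} (hv : QCov v) :
    Van ((ProEtS.epsPull X).obj G).obj v ∧ (∀ n, QGood (pw.{u + 1} v n)) ∧
      Good ((ProEtS.epsPull X).obj G).obj V := by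
  obtain ⟨I, _, _, D, c, i, W, g, rfl, rfl, ⟨hc⟩, hD, het, hWe, hWa, hs, hv'⟩ := hv
  simp only [eqToHom_refl, Category.id_comp, Category.comp_id] at hv'
  subst hv'
  haveI := hWa
  haveI := hD.qc i
  haveI := hD.qs i
  haveI : QuasiCompact g.left := quasiCompact_of_compactSpace _
  haveI : QuasiSeparated g.left := inferInstance
  obtain ⟨hcV⟩ := nonempty_isLimit_pieceCone g hc
  have hcU : IsSchLimit (c.whisker (Over.forget i)) :=
    (Functor.Initial.isLimitWhiskerEquiv (Over.forget i) ((toSch X).mapCone c)).symm hc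
  have hgl : Etale g.left := etale_of_etale_hom g hWe (het i)
  have hWj : ∀ j, Etale ((pieceDiag D g).obj j).hom := fun j => by
    haveI := het j.left
    haveI := hgl
    haveI : Etale (pSnd D g j).left := etale_pullback_snd g (D.map j.hom)
    rw [← MorphismProperty.Over.w (pSnd D g j)]
    exact inferInstanceAs (Etale ((pSnd D g j).left ≫ (D.obj j.left).hom))
  have hpwe : ∀ n j, Etale ((pwDiag (pieceNat g) n).obj j).hom := fun n j => by
    haveI := het j.left
    haveI := hgl
    haveI : Etale (pSnd D g j).left := etale_pullback_snd g (D.map j.hom)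
    haveI := etale_pwHom (pSnd D g j) n
    show Etale (pw.{u + 1} (pSnd D g j) n).hom
    rw [← MorphismProperty.Over.w (pwHom.{u + 1} (pSnd D g j) n)]
    exact inferInstanceAs (Etale ((pwHom.{u + 1} (pSnd D g j) n).left ≫ (D.obj j.left).hom))
  have hw : ∀ j, (pieceCone g c).π.app j ≫ (pieceNat g).app j = ptSnd g c ≫ (c.whisker (Over.forget i)).π.app j :=
    fun j => ptπ_snd g c j
  refine ⟨fun n => H18Cech.isZero_cechH_succ _ _ fun x hx => ?_, fun n => ?_, ?_⟩
  · refine exists_d_eq_of_descends (pieceNat g) (pieceCone g c) (c.whisker (Over.forget i)) (ptSnd g c) hw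
      (fun m => ?_) n (fun j y hy => ?_) x hx
    · obtain ⟨hl⟩ := nonempty_isLimit_pwCone (pieceNat g) (pieceCone g c) (c.whisker (Over.forget i))
        (ptSnd g c) hw hcV hcU m
      exact ⟨lifts_of_qcqs (fun {Z} R hR => isSheaf_eps G R (etTop_le _ hR)) (isLP_eps G) hl
          (isQcqsSys_pwDiag g hc hD m),
        evEq_of_qcqs (fun {Z} R hR => isSheaf_eps G R (etTop_le _ hR)) (isLP_eps G) hl
          (isQcqsSys_pwDiag g hc hD m)⟩
    · exact H18Cech.exists_of_isZero_cechH_succ _ _ (van_of_etale G (pSnd D g j) (het j.left) (hWj j) n) y hy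
  · obtain ⟨hl⟩ := nonempty_isLimit_pwCone (pieceNat g) (pieceCone g c) (c.whisker (Over.forget i))
      (ptSnd g c) hw hcV hcU n
    exact ⟨Over i, inferInstance, inferInstance, pwDiag (pieceNat g) n,
      (pwCone (pieceNat g) (pieceCone g c) (c.whisker (Over.forget i)) (ptSnd g c) hw n).π, ⟨hl⟩,
      isQcqsSys_pwDiag g hc hD n, hpwe n⟩
  · refine good_limit (isLP_eps G) hcV (fun j => ?_) (isAffine_piecePt' hD g hc)
    haveI : IsAffine ((pieceDiag D g).obj j).left := isAffine_pieceDiag' hD g j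
    exact good_etale G (hWj j)

/-- Acyclicity for affine and for quasi-compact quasi-separated coverings. -/
structure IsQAcyc (M : ProEtS.AbP X) : Prop where
  acyc : IsAcyc ((ProEtS.epsPull X).obj G).obj M
  qvan : ∀ ⦃V U : X.ProEt⦄ (v : V ⟶ U), QCov v → Van M.obj v

theorem isQAcyc_eps : IsQAcyc G ((ProEtS.epsPull X).obj G) where
  acyc _ _ _ hU hv := van_of_isCov (isLP_eps G) hU hv
  qvan _ _ _ hv := (hv.van_qgood_good G).1

theorem isQAcyc_of_injective (M : ProEtS.AbP X) [Injective M] : IsQAcyc G M where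
  acyc := isAcyc_of_injective M
  qvan V U v _ n := by
    haveI : Injective M.obj := Injective.injective_of_adjoint
      (sheafificationAdjunction (Scheme.ProEt.topology X) AddCommGrpCat.{u + 1}) M
    exact H18Cech.isZero_cechH_of_injective _ _ n

variable {G} {S : ShortComplex (ProEtS.AbP X)}

theorem surjective_sections_qgood (hS : S.ShortExact) (h₁ : IsQAcyc G S.X₁) {U : X.ProEt} (hU : QGood U) :
    Function.Surjective (S.g.hom.app (op U)) := by
  intro s
  obtain ⟨V, v, hv⟩ := exists_qcov hU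
  obtain ⟨-, -, hV⟩ := hv.van_qgood_good G
  obtain ⟨t, ht⟩ := surjective_sections hS h₁.acyc hV (S.X₃.obj.map v.op s)
  have hfor : ∀ M : ProEtS.AbP X, Presieve.IsSheafFor (M.obj ⋙ forget AddCommGrpCat.{u + 1})
      (Presieve.ofArrows (fun i => (single.{u + 1} v i).left) fun i => (single.{u + 1} v i).hom) :=
    fun M => (Presieve.isSheafFor_iff_generate _).2 (((isSheaf_iff_isSheaf_of_type _ _).1
      ((Presheaf.isSheaf_iff_isSheaf_forget _ _ (forget _)).1 M.property)) _ hv.mem_topology)
  exact H18Cech.exists_lift_of_isZero (S := S.map (sheafToPresheaf _ _)) (single.{u + 1} v)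
    (fun V => (sections_left_exact hS V).1) (fun V => (sections_left_exact hS V).2) (hfor S.X₂)
    (hfor S.X₃).isSeparatedFor (h₁.qvan v hv 0) s fun _ => ⟨t, ht⟩

theorem isQAcyc_X₃ (hS : S.ShortExact) (h₁ : IsQAcyc G S.X₁) (h₂ : IsQAcyc G S.X₂) : IsQAcyc G S.X₃ where
  acyc := isAcyc_X₃ (isLP_eps G) hS h₁.acyc h₂.acyc
  qvan V U v hv p := by
    have hT := H18Cech.shortExact_map (S := S.map (sheafToPresheaf _ _)) (single.{u + 1} v)
      (fun V => (sections_left_exact hS V).1) (fun V => (sections_left_exact hS V).2)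
      fun n a => by
        obtain rfl : a = fun _ => PUnit.unit := funext fun _ => rfl
        exact surjective_sections_qgood hS h₁ ((hv.van_qgood_good G).2.1 n)
    exact (hT.homology_exact₃ (p + 1) (p + 1 + 1) rfl).isZero_of_both_zeros
      ((h₂.qvan v hv p).eq_of_src _ _) ((h₁.qvan v hv (p + 1)).eq_of_tgt _ _)

end Eps

end Groth.Agent.H1EpsS
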