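import Groth.Agent.H1EpsS.Pieces
import Groth.Agent.H26ProEt.AffineSite
import Groth.Agent.H06EGA8.DescendSmooth
import Groth.Agent.H7Lim.FPDescent.Exists
import Groth.Agent.H7Lim.DescendAffine

/-!
# The etale topology on the small pro-etale site, and descent of its coverings to a stage
-/

set_option autoImplicit false
set_option backward.isDefEq.respectTransparency false

universe u

open CategoryTheory CategoryTheory.Limits AlgebraicGeometry Opposite

attribute [local instance] IsCofiltered.isConnected CategoryTheory.isConnected_of_hasTerminal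

namespace Groth.Agent.H1EpsS

open H26ProEt (toSch)

variable {X : Scheme.{u}}

/-- Etale coverings of objects of the pro-etale site. -/
noncomputable def etPre (X : Scheme.{u}) : Precoverage X.ProEt :=
  Scheme.etalePrecoverage.comap (toSch X)

/-- The etale topology on the pro-etale site. -/
noncomputable abbrev etTop (X : Scheme.{u}) : GrothendieckTopology X.ProEt := (etPre X).toGrothendieck

theorem etTop_le : etTop X ≤ Scheme.ProEt.topology X := by
  refine Precoverage.toGrothendieck_mono ?_
  intro U R hR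
  simp only [etPre, Scheme.ProEt.precoverage, Precoverage.mem_comap_iff] at hR ⊢
  exact Scheme.etalePrecoverage_le_proetalePrecoverage _ hR

theorem mem_etTop_iff {B : X.ProEt} {T : Sieve B} :
    T ∈ etTop X B ↔ ∃ R ∈ etPre X B, R ≤ (T : Presieve B) := by
  haveI : Scheme.etalePrecoverage.{u}.HasIsos := by unfold Scheme.etalePrecoverage; infer_instance
  haveI : Scheme.etalePrecoverage.{u}.IsStableUnderComposition := by
    unfold Scheme.etalePrecoverage; infer_instance
  haveI : Scheme.etalePrecoverage.{u}.IsStableUnderBaseChange := by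
    unfold Scheme.etalePrecoverage; infer_instance
  haveI : (etPre X).HasIsos := by unfold etPre; infer_instance
  haveI : (etPre X).IsStableUnderComposition := by unfold etPre; infer_instance
  haveI : (etPre X).IsStableUnderBaseChange := by unfold etPre; infer_instance
  exact Precoverage.mem_toGrothendieck_iff_of_isStableUnderComposition

theorem ofArrows_mem {B : X.ProEt} {κ : Type*} {V : κ → X.ProEt} (g : ∀ k, V k ⟶ B)
    (het : ∀ k, Etale (g k).left) (hs : ∀ b : B.left, ∃ (k : κ) (y : (V k).left), (g k).left y = b) :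
    Sieve.ofArrows V g ∈ etTop X B := by
  refine Precoverage.generate_mem_toGrothendieck ?_
  simp only [etPre, Precoverage.mem_comap_iff, Presieve.map_ofArrows]
  show Presieve.ofArrows (fun k => (V k).left) (fun k => (g k).left) ∈ Scheme.precoverage @Etale B.left
  exact (Scheme.ofArrows_mem_precoverage_iff _).2 ⟨fun b => by
    obtain ⟨k, y, hy⟩ := hs b
    exact ⟨k, y, hy⟩, het⟩

section Left

variable {A B C : X.ProEt} (f : A ⟶ C) (g : B ⟶ C)

theorem isPullback_left :
    IsPullback (pullback.fst f g).left (pullback.snd f g).left f.left g.left :=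
  (IsPullback.of_hasPullback f g).map (toSch X)

theorem isAffine_pullback_left [IsAffine A.left] [IsAffine B.left] [IsAffine C.left] :
    IsAffine (pullback f g).left :=
  IsAffine.of_isIso (isPullback_left f g).isoPullback.hom

theorem surjective_pullback_snd [Surjective f.left] : Surjective (pullback.snd f g).left :=
  MorphismProperty.of_isPullback (P := @Surjective) (isPullback_left f g) ‹_›

theorem etale_pullback_snd [Etale f.left] : Etale (pullback.snd f g).left :=
  MorphismProperty.of_isPullback (P := @Etale) (isPullback_left f g) ‹_›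

end Left

/-- A covering sieve of an affine object contains a finite covering by affine etale pieces. -/
theorem exists_affine_cover {B : X.ProEt} [IsAffine B.left] {T : Sieve B} (hT : T ∈ etTop X B) :
    ∃ (κ : Type u) (_ : Finite κ) (V : κ → X.ProEt) (g : ∀ k, V k ⟶ B),
      (∀ k, IsAffine (V k).left) ∧ (∀ k, Etale (g k).left) ∧ Sieve.ofArrows V g ∈ etTop X B ∧
        (∀ b : B.left, ∃ (k : κ) (y : (V k).left), (g k).left y = b) ∧ ∀ k, T (g k) := by
  obtain ⟨R, hR, hle⟩ := mem_etTop_iff.1 hT
  obtain ⟨ι, W, f, rfl⟩ := R.exists_eq_ofArrows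
  simp only [etPre, Precoverage.mem_comap_iff, Presieve.map_ofArrows] at hR
  replace hR : Presieve.ofArrows (fun k => (W k).left) (fun k => (f k).left) ∈
      Scheme.precoverage @Etale B.left := hR
  obtain ⟨hs, het⟩ := (Scheme.ofArrows_mem_precoverage_iff _).1 hR
  have h : ∀ b : B.left, ∃ (i : ι) (O : (W i).left.Opens) (y : (W i).left),
      IsAffineOpen O ∧ y ∈ O ∧ (f i).left y = b := fun b => by
    obtain ⟨i, y, hy⟩ := hs b
    obtain ⟨O, hO, hyO, -⟩ := exists_isAffineOpen_mem_and_subset (x := y) (U := ⊤) trivial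
    exact ⟨i, O, y, hO, hyO, hy⟩
  choose idx O y hO hyO hy using h
  have hetO : ∀ b, Etale ((O b).ι ≫ (f (idx b)).left) := fun b =>
    haveI := het (idx b)
    inferInstance
  obtain ⟨s, hs'⟩ := isCompact_univ.elim_finite_subcover
    (fun b => Set.range ((O b).ι ≫ (f (idx b)).left))
    (fun b => haveI := hetO b; (Scheme.Hom.isOpenMap _).isOpen_range)
    (fun b _ => Set.mem_iUnion.2 ⟨b, ⟨y b, hyO b⟩, hy b⟩)
  haveI : ∀ b, WeaklyEtale ((O b).ι ≫ (W (idx b)).hom) := fun b => inferInstance
  let V : ↥s → X.ProEt := fun b => Scheme.ProEt.mk ((O b.1).ι ≫ (W (idx b.1)).hom)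
  let e : ∀ b, V b ⟶ W (idx b.1) := fun b => MorphismProperty.Over.homMk (O b.1).ι (by rfl) trivial
  have hsur : ∀ b : B.left, ∃ (k : ↥s) (z : (V k).left), (e k ≫ f (idx k.1)).left z = b := fun b => by
    obtain ⟨k, hk, z, hz⟩ := Set.mem_iUnion₂.1 (hs' (Set.mem_univ b))
    exact ⟨⟨k, hk⟩, z, hz⟩
  exact ⟨↥s, inferInstance, V, fun b => e b ≫ f (idx b.1), fun b => hO b.1, fun b => hetO b.1,
    ofArrows_mem _ (fun b => hetO b.1) hsur, hsur, fun b => T.downward_closed (hle _ _ ⟨idx b.1⟩) _⟩

variable {I : Type u} [SmallCategory I] {D : I ⥤ X.ProEt} {c : Cone D}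

/-- A cone over a system is limiting as schemes. -/
abbrev IsSchLimit (c : Cone D) : Type _ := IsLimit ((toSch X).mapCone c)

theorem nonempty_isLimit_pieceCone [IsCofiltered I] {i : I} {W : X.ProEt} (w : W ⟶ D.obj i)
    (hc : IsSchLimit c) : Nonempty (IsSchLimit (pieceCone w c)) := by
  exact ⟨isLimitOfIsPullbackOfIsConnected
    (Functor.whiskerRight ({ app := pSnd D w, naturality := fun _ _ φ => map_pSnd D w φ } :
        pieceDiag D w ⟶ Over.forget i ⋙ D) (toSch X))
    ((toSch X).mapCone (pieceCone w c)) (((toSch X).mapCone c).whisker (Over.forget i))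
    { hom := (toSch X).map (ptSnd w c)
      w := fun j => by
        show (toSch X).map (ptSnd w c) ≫ (toSch X).map (c.π.app j.left) =
          (toSch X).map (ptπ w c j) ≫ (toSch X).map (pSnd D w j)
        rw [← Functor.map_comp, ← Functor.map_comp, ptπ_snd] }
    (fun j => (isPullback_ptπ w c j).map (toSch X))
    ((Functor.Initial.isLimitWhiskerEquiv (Over.forget i) ((toSch X).mapCone c)).symm hc)⟩

theorem isAffine_pieceDiag {i : I} {W : X.ProEt} (w : W ⟶ D.obj i) [IsAffine W.left]
    (hD : ∀ j, IsAffine (D.obj j).left) (j : Over i) : IsAffine ((pieceDiag D w).obj j).left :=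
  have := hD i
  have : IsAffine ((Over.forget i ⋙ D).obj j).left := hD j.left
  isAffine_pullback_left w (D.map j.hom)

theorem isAffine_piecePt {i : I} {W : X.ProEt} (w : W ⟶ D.obj i) [IsAffine W.left]
    (hD : ∀ j, IsAffine (D.obj j).left) (hT : IsAffine c.pt.left) : IsAffine (piecePt w c).left :=
  have := hD i
  have : IsAffine (((Functor.const I).obj c.pt).obj i).left := hT
  isAffine_pullback_left w (c.π.app i)

variable [IsCofiltered I] (hc : IsSchLimit c) (hD : ∀ i, IsAffine (D.obj i).left) (hT : IsAffine c.pt.left)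

include hc hD hT

/-- An affine etale piece over the limit comes from a stage. -/
theorem exists_piece_stage {V : X.ProEt} [IsAffine V.left] (v : V ⟶ c.pt) [Etale v.left] :
    ∃ (j : I) (P : X.ProEt) (p : P ⟶ D.obj j) (g : V ⟶ P),
      IsAffine P.left ∧ Etale p.left ∧ IsPullback g v p (c.π.app j) := by
  let E : I ⥤ Scheme.{u} := D ⋙ toSch X
  let d : Cone E := (toSch X).mapCone c
  have : ∀ i, IsAffine (E.obj i) := hD
  have : ∀ (i j : I) (f : i ⟶ j), IsAffineHom (E.map f) := fun i j f => isAffineHom_of_isAffine _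
  have : ∀ i, CompactSpace (E.obj i) := fun i => inferInstance
  have : ∀ i, QuasiSeparatedSpace (E.obj i) := fun i => inferInstance
  have : IsAffine d.pt := hT
  have hv : Etale (show V.left ⟶ d.pt from v.left) := ‹_›
  have : IsAffineHom (show V.left ⟶ d.pt from v.left) := isAffineHom_of_isAffine _
  obtain ⟨i, ⟨M⟩⟩ := H7Lim.FPDescent.exists_model (c := d) hc (show V.left ⟶ d.pt from v.left)
  have : CompactSpace M.P := QuasiCompact.compactSpace_of_compactSpace M.p
  have : QuasiSeparatedSpace M.P := quasiSeparatedSpace_of_quasiSeparated M.p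
  obtain ⟨j, φ, het⟩ := H06EGA8.descendsAffine_etale I E d hc i M.p M.lfp
    ((H7Lim.prop_iff_of_isPullback (P := @Etale) M.hpb).1 hv)
  let M₁ := M.shift φ
  have : CompactSpace M₁.P := QuasiCompact.compactSpace_of_compactSpace M₁.p
  have : QuasiSeparatedSpace M₁.P := quasiSeparatedSpace_of_quasiSeparated M₁.p
  have het₁ : Etale M₁.p := het
  obtain ⟨k, ψ, haff⟩ := H7Lim.descendsAffine_isAffineHom.descends I E d hc j M₁.p trivial
    ((H7Lim.prop_iff_of_isPullback (P := @IsAffineHom) M₁.hpb).1 inferInstance)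
  let M₂ := M₁.shift ψ
  have haff₂ : IsAffineHom M₂.p := haff
  have het₂ : Etale M₂.p := MorphismProperty.pullback_snd M₁.p (E.map ψ) het₁
  haveI : WeaklyEtale (show M₂.P ⟶ (D.obj k).left from M₂.p) := inferInstance
  haveI : WeaklyEtale ((show M₂.P ⟶ (D.obj k).left from M₂.p) ≫ (D.obj k).hom) := inferInstance
  let P : X.ProEt := Scheme.ProEt.mk ((show M₂.P ⟶ (D.obj k).left from M₂.p) ≫ (D.obj k).hom)
  let p : P ⟶ D.obj k := MorphismProperty.Over.homMk M₂.p rfl trivial
  have wS : M₂.g ≫ M₂.p ≫ (D.obj k).hom = V.hom := by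
    rw [← Category.assoc, M₂.hpb.w, Category.assoc, ← MorphismProperty.Over.w v]
    exact congrArg _ (MorphismProperty.Over.w (c.π.app k))
  exact ⟨k, P, p, MorphismProperty.Over.homMk M₂.g wS trivial, isAffine_of_isAffineHom M₂.p, het₂,
    IsPullback.of_map_of_faithful (toSch X) M₂.hpb⟩

/-- A covering sieve of the limit contains the base change of a finite covering of a stage by affine
etale pieces. -/
theorem exists_cover_stage {T : Sieve c.pt} (hR : T ∈ etTop X c.pt) :
    ∃ (j : I) (κ : Type u) (_ : Finite κ) (V : κ → X.ProEt) (g : ∀ k, V k ⟶ D.obj j),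
      (∀ k, IsAffine (V k).left) ∧ Sieve.ofArrows V g ∈ etTop X (D.obj j) ∧
      ∀ k ⦃Z : X.ProEt⦄ (a : Z ⟶ c.pt) (b : Z ⟶ V k), b ≫ g k = a ≫ c.π.app j → T a := by
  haveI := hT
  obtain ⟨κ, _, V, v, hVa, hve, -, hvs, hvT⟩ := exists_affine_cover hR
  choose j P p g hPa hpe hg using fun k =>
    haveI := hVa k
    haveI := hve k
    exists_piece_stage hc hD hT (v k)
  classical
  cases nonempty_fintype κ
  obtain ⟨m, hm⟩ := IsCofiltered.inf_objs_exists (Finset.univ.image j)
  let e : ∀ k, m ⟶ j k := fun k => (hm (Finset.mem_image_of_mem j (Finset.mem_univ k))).some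
  haveI := fun i => hD i
  haveI := hPa
  haveI := hpe
  let Q : κ → X.ProEt := fun k => pullback (p k) (D.map (e k))
  let q : ∀ k, Q k ⟶ D.obj m := fun k => pullback.snd (p k) (D.map (e k))
  have hqe : ∀ k, Etale (q k).left := fun k => etale_pullback_snd (p k) (D.map (e k))
  have hQa : ∀ k, IsAffine (Q k).left := fun k => isAffine_pullback_left (p k) (D.map (e k))
  have hQT : ∀ k ⦃Z : X.ProEt⦄ (a : Z ⟶ c.pt) (b : Z ⟶ Q k), b ≫ q k = a ≫ c.π.app m → T a := by
    intro k Z a b hab
    have hw : (b ≫ pullback.fst (p k) (D.map (e k))) ≫ p k = a ≫ c.π.app (j k) := by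
      rw [Category.assoc, pullback.condition, ← Category.assoc]
      change (b ≫ q k) ≫ _ = _
      rw [hab, Category.assoc, c.w]
    obtain ⟨l, -, hl⟩ := (hg k).exists_lift (b ≫ pullback.fst (p k) (D.map (e k))) a hw
    rw [← hl]
    exact T.downward_closed (hvT k) l
  let O : (D.obj m).left.Opens :=
    ⨆ k, ⟨Set.range (q k).left, (haveI := hqe k; (Scheme.Hom.isOpenMap (q k).left).isOpen_range)⟩
  have hO : (c.π.app m).left ⁻¹ᵁ ⊤ ≤ (c.π.app m).left ⁻¹ᵁ O := fun t _ => by
    obtain ⟨k, x, hx⟩ := hvs t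
    refine TopologicalSpace.Opens.mem_iSup.2 ⟨k, ?_⟩
    have hw : g k ≫ p k = (v k ≫ c.π.app m) ≫ D.map (e k) := by
      rw [(hg k).w, Category.assoc, c.w]
    refine ⟨(pullback.lift (g k) (v k ≫ c.π.app m) hw).left x, ?_⟩
    change (pullback.lift (g k) (v k ≫ c.π.app m) hw ≫ pullback.snd _ _).left x = _
    rw [pullback.lift_snd]
    show (c.π.app m).left ((v k).left x) = _
    rw [hx]
  have : ∀ {i j : I} (f : i ⟶ j), IsAffineHom ((D ⋙ toSch X).map f) := fun {i j} f =>
    have : IsAffine ((D ⋙ toSch X).obj i) := hD i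
    have : IsAffine ((D ⋙ toSch X).obj j) := hD j
    isAffineHom_of_isAffine _
  have : IsAffine ((D ⋙ toSch X).obj m) := hD m
  obtain ⟨n, f, hf⟩ := exists_map_preimage_le_map_preimage (D ⋙ toSch X) ((toSch X).mapCone c) hc
    (i := m) (U := ⊤) (V := O) (isAffineOpen_top _).isCompact hO
  refine ⟨n, κ, inferInstance, fun k => pullback (q k) (D.map f), fun k => pullback.snd (q k) (D.map f),
    fun k => ?_, ofArrows_mem _ (fun k => ?_) (fun b => ?_), fun k Z a b hab => ?_⟩
  · haveI := hQa k
    exact isAffine_pullback_left (q k) (D.map f)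
  · haveI := hqe k
    exact etale_pullback_snd (q k) (D.map f)
  · obtain ⟨k, x, hx⟩ := TopologicalSpace.Opens.mem_iSup.1
      (hf (trivial : b ∈ (D.map f).left ⁻¹ᵁ (⊤ : (D.obj m).left.Opens)))
    obtain ⟨z, hz₁, hz₂⟩ := Scheme.Pullback.exists_preimage_pullback (f := (q k).left) (g := (D.map f).left) x b hx
    refine ⟨k, (isPullback_left (q k) (D.map f)).isoPullback.inv z, ?_⟩
    rw [← Scheme.Hom.comp_apply, IsPullback.isoPullback_inv_snd]
    exact hz₂
  · refine hQT k a (b ≫ pullback.fst (q k) (D.map f)) ?_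
    rw [Category.assoc, pullback.condition, ← Category.assoc, hab, Category.assoc, c.w]

end Groth.Agent.H1EpsS
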